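import Groth.Agent.MeroLib.Dense
import Groth.Agent.TMul.AmpleBasis
import Groth.Agent.QC.Localisation

/-!
Opens containing the associated (resp. maximal) points have regular denominators.
-/

set_option autoImplicit false
set_option backward.isDefEq.respectTransparency false

universe u

open CategoryTheory AlgebraicGeometry TopologicalSpace Opposite

noncomputable section

namespace Groth.Agent.MeroLib

open Mero

variable {X : Scheme.{u}}

/-- Prime avoidance on an affine open. -/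
theorem exists_denom {W : X.Opens} (hW : IsAffineOpen W) (V : X.Opens) (Q : Set (Ideal Γ(X, W))) (hQ : Q.Finite)
    (hp : ∀ q ∈ Q, q.IsPrime)
    (hV : ∀ q ∈ Q, ∀ z : W, (hW.primeIdealOf z).asIdeal = q → z.1 ∈ V) :
    ∃ b : Γ(X, W), (∀ q ∈ Q, b ∉ q) ∧ X.basicOpen b ≤ V := by
  classical
  have hq : ∀ q ∈ Q, ∃ f : Γ(X, W), X.basicOpen f ≤ V ∧ f ∉ q := by
    intro q hqQ
    haveI := hp q hqQ
    obtain ⟨z, hz⟩ : ∃ z : W, hW.primeIdealOf z = ⟨q, inferInstance⟩ := by
      refine ⟨⟨hW.fromSpec ⟨q, inferInstance⟩, ?_⟩, ?_⟩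
      · rw [← SetLike.mem_coe, ← hW.range_fromSpec]; exact Set.mem_range_self _
      · exact hW.fromSpec.isOpenEmbedding.injective (hW.fromSpec_primeIdealOf _)
    obtain ⟨f, hf, hzf⟩ := hW.exists_basicOpen_le ⟨z.1, hV q hqQ z (congrArg PrimeSpectrum.asIdeal hz)⟩ z.2
    refine ⟨f, hf, fun hfq => ?_⟩
    letI := TopCat.Presheaf.algebra_section_stalk X.presheaf z
    haveI := hW.isLocalization_stalk z
    have h1 := (IsLocalization.AtPrime.isUnit_to_map_iff (↑(X.presheaf.stalk z.1) : Type u)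
      (hW.primeIdealOf z).asIdeal f).mp ((X.mem_basicOpen f z.1 z.2).mp hzf)
    exact h1 (by rw [hz]; exact hfq)
  choose f hfV hfq using hq
  let S : Set Γ(X, W) := Set.range fun q : Q => f q.1 q.2
  obtain ⟨b, hbS, hb⟩ : ∃ b ∈ Ideal.span S, ∀ q ∈ Q, b ∉ q := by
    by_contra hc
    push Not at hc
    have h1 : ((Ideal.span S : Ideal Γ(X, W)) : Set Γ(X, W)) ⊆ ⋃ q ∈ ((hQ.toFinset : Finset (Ideal Γ(X, W))) : Set (Ideal Γ(X, W))), (q : Set Γ(X, W)) :=
      fun b hb => by
        obtain ⟨q, hq, hbq⟩ := hc b hb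
        exact Set.mem_biUnion (hQ.mem_toFinset.mpr hq) hbq
    obtain ⟨q, hq, hle⟩ := (Ideal.subset_union_prime (f := fun q : Ideal Γ(X, W) => q) ⊥ ⊥
      (fun i hi _ _ => hp i (hQ.mem_toFinset.mp hi))).mp h1
    exact hfq q (hQ.mem_toFinset.mp hq) (hle (Ideal.subset_span ⟨⟨q, hQ.mem_toFinset.mp hq⟩, rfl⟩))
  refine ⟨b, hb, fun y hy => ?_⟩
  have hyW : y ∈ W := X.basicOpen_le _ hy
  by_contra hyV
  have hm : (Ideal.span S) ≤ (IsLocalRing.maximalIdeal _).comap (gO y hyW) := by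
    rw [Ideal.span_le]
    rintro _ ⟨q, rfl⟩
    intro hu
    exact hyV (hfV q.1 q.2 ((X.mem_basicOpen _ y hyW).mpr hu))
  exact hm hbS ((X.mem_basicOpen b y hyW).mp hy)

theorem mem_regSub_of_nonZeroDivisor {W : X.Opens} (hW : IsAffineOpen W) {b : Γ(X, W)}
    (hb : b ∈ nonZeroDivisors Γ(X, W)) : b ∈ regSub X W := by
  rw [Groth.Agent.S12513.result X W hW]; exact hb

/-- An open containing the associated points. -/
theorem hasDenoms_of_ass [IsLocallyNoetherian X] (U V : X.Opens)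
    (hV : ∀ z : X, z ∈ U → IsAssociatedPrime (IsLocalRing.maximalIdeal (X.presheaf.stalk z)) (X.presheaf.stalk z) → z ∈ V) :
    HasDenoms U V := by
  intro x hx W₀ hxW₀ hW₀
  obtain ⟨W, hW, hxW, hWW₀⟩ := TopologicalSpace.Opens.isBasis_iff_nbhd.mp X.isBasis_affineOpens hxW₀
  haveI : IsNoetherianRing Γ(X, W) := IsLocallyNoetherian.component_noetherian ⟨W, hW⟩
  obtain ⟨b, hb, hbV⟩ := exists_denom hW V (associatedPrimes Γ(X, W) Γ(X, W))
    (associatedPrimes.finite _ _) (fun q hq => hq.isPrime) fun q hq z hz => by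
      refine hV z.1 (hW₀ (hWW₀ z.2)) ?_
      letI := TopCat.Presheaf.algebra_section_stalk X.presheaf z
      haveI := hW.isLocalization_stalk z
      refine Module.associatedPrimes.mem_associatedPrimes_of_comap_mem_associatedPrimes_of_isLocalizedModule
        (hW.primeIdealOf z).asIdeal.primeCompl (Algebra.linearMap Γ(X, W) (↑(X.presheaf.stalk z.1) : Type u)) _ ?_
      have he := IsLocalization.AtPrime.under_maximalIdeal (↑(X.presheaf.stalk z.1) : Type u) (hW.primeIdealOf z).asIdeal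
      rw [Ideal.under] at he
      rw [he, hz]; exact hq
  refine ⟨W, b, hW, hxW, hWW₀, mem_regSub_of_nonZeroDivisor hW ?_, hbV⟩
  by_contra hc
  have h1 : b ∈ ⋃ p ∈ associatedPrimes Γ(X, W) Γ(X, W), (p : Set Γ(X, W)) := by
    rw [biUnion_associatedPrimes_eq_compl_nonZeroDivisors]; exact hc
  obtain ⟨q, hq, hbq⟩ := Set.mem_iUnion₂.mp h1
  exact hb q hq hbq

/-- An open containing the maximal points. -/
theorem hasDenoms_of_maximal [IsReduced X]
    (hfin : ∀ x : X, ∃ W : X.Opens, x ∈ W ∧ {Z : Set X | Z ∈ irreducibleComponents X ∧ (Z ∩ (W : Set X)).Nonempty}.Finite)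
    (U V : X.Opens) (hV : ∀ z : X, z ∈ U → (∀ z' : X, z' ⤳ z → z' = z) → z ∈ V) : HasDenoms U V := by
  classical
  intro x hx W₀ hxW₀ hW₀
  obtain ⟨W₁, hxW₁, hfinW⟩ := hfin x
  obtain ⟨W, hW, hxW, hWle⟩ := TopologicalSpace.Opens.isBasis_iff_nbhd.mp X.isBasis_affineOpens
    (show x ∈ W₀ ⊓ W₁ from ⟨hxW₀, hxW₁⟩)
  -- minimal primes give maximal points
  let pt : minimalPrimes Γ(X, W) → W := fun q =>
    ⟨hW.fromSpec ⟨q.1, q.2.1.1⟩, by rw [← SetLike.mem_coe, ← hW.range_fromSpec]; exact Set.mem_range_self _⟩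
  have hmax : ∀ (q : minimalPrimes Γ(X, W)) (z' : X), z' ⤳ (pt q).1 → z' = (pt q).1 := by
    intro q z' hz'
    have hz'W : z' ∈ W := hz'.mem_open W.2 (pt q).2
    have h1 : hW.primeIdealOf ⟨z', hz'W⟩ ⤳ (⟨q.1, q.2.1.1⟩ : Spec Γ(X, W)) :=
      hW.fromSpec.isEmbedding.isInducing.specializes_iff.mp (by rw [hW.fromSpec_primeIdealOf]; exact hz')
    have h2 := (PrimeSpectrum.le_iff_specializes _ _).mpr h1
    have h3 : hW.primeIdealOf ⟨z', hz'W⟩ = ⟨q.1, q.2.1.1⟩ :=
      PrimeSpectrum.ext (le_antisymm h2 (q.2.2 ⟨(hW.primeIdealOf ⟨z', hz'W⟩).2, bot_le⟩ h2))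
    calc z' = hW.fromSpec (hW.primeIdealOf ⟨z', hz'W⟩) := (hW.fromSpec_primeIdealOf ⟨z', hz'W⟩).symm
      _ = _ := by rw [h3]
  have hfinQ : (minimalPrimes Γ(X, W)).Finite := by
    haveI := hfinW.to_subtype
    refine Set.finite_coe_iff.mp (Finite.of_injective
      (β := {Z : Set X | Z ∈ irreducibleComponents X ∧ (Z ∩ (W₁ : Set X)).Nonempty})
      (fun q => ⟨closure {(pt q).1}, Groth.Agent.GenComp.closure_mem_irreducibleComponents
        (fun z' hz' => by rw [hmax q z' hz']), ⟨(pt q).1, subset_closure rfl, (hWle.trans inf_le_right) (pt q).2⟩⟩) ?_)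
    intro q q' hqq
    have e : closure ({(pt q).1} : Set X) = closure {(pt q').1} := congrArg Subtype.val hqq
    have h1 : (pt q).1 = (pt q').1 :=
      ((specializes_iff_mem_closure.mpr (e ▸ subset_closure rfl)).antisymm
       (specializes_iff_mem_closure.mpr (e.symm ▸ subset_closure rfl))).eq
    exact Subtype.ext (congrArg PrimeSpectrum.asIdeal (hW.fromSpec.isEmbedding.injective h1))
  obtain ⟨b, hb, hbV⟩ := exists_denom hW V (minimalPrimes Γ(X, W)) hfinQ (fun q hq => hq.1.1) fun q hq z hz => by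
    have hze : z.1 = (pt ⟨q, hq⟩).1 := by
      refine (hW.fromSpec_primeIdealOf z).symm.trans ?_
      exact congrArg _ (PrimeSpectrum.ext hz)
    rw [hze]
    exact hV _ (hW₀ ((hWle.trans inf_le_left) (pt ⟨q, hq⟩).2)) (hmax ⟨q, hq⟩)
  refine ⟨W, b, hW, hxW, hWle.trans inf_le_left, mem_regSub_of_nonZeroDivisor hW ?_, hbV⟩
  refine mem_nonZeroDivisors_iff_right.2 fun a ha => ?_
  haveI : _root_.IsReduced Γ(X, W) := inferInstance
  have hmem : a ∈ sInf (⊥ : Ideal Γ(X, W)).minimalPrimes := by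
    refine Submodule.mem_sInf.mpr fun q hq => ?_
    rcases hq.1.1.mem_or_mem (show a * b ∈ q by rw [ha]; exact q.zero_mem) with h1 | h1
    · exact h1
    · exact absurd h1 (hb q hq)
  rw [Ideal.sInf_minimalPrimes] at hmem
  obtain ⟨n, hn⟩ := hmem
  exact IsNilpotent.eq_zero ⟨n, hn⟩

end Groth.Agent.MeroLib

namespace Groth.Agent.MeroLib

open Mero
open Groth.Agent.QC (res res_res app_res res_smul)

variable {X : Scheme.{u}} {L : X.Modules}

/-- Being a generator is local. -/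
theorem isGen_of_locally {V : X.Opens} (e : Γ(L, V))
    (h : ∀ x : X, x ∈ V → ∃ (U : X.Opens) (hU : U ≤ V), x ∈ U ∧ TMul.IsGen (res L hU e)) : TMul.IsGen e := by
  classical
  intro O hO
  choose U hU hxU hgen using fun x : O => h x.1 (hO x.2)
  have hb : ∀ (x : O), Function.Bijective fun c : Γ(X, O ⊓ U x) => c • res L ((inf_le_left : O ⊓ U x ≤ O).trans hO) e :=
    fun x => by simpa only [res_res] using hgen x (O ⊓ U x) inf_le_right
  refine ⟨fun c c' hcc => ?_, fun m => ?_⟩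
  · refine TopCat.Presheaf.section_ext X.sheaf O c c' fun y hy => ?_
    have hy' : y ∈ O ⊓ U ⟨y, hy⟩ := And.intro hy (hxU ⟨y, hy⟩)
    have h1 := congrArg (res L (inf_le_left : O ⊓ U ⟨y, hy⟩ ≤ O)) hcc
    simp only [res_smul, res_res] at h1
    have h2 := congrArg (gO y hy') ((hb ⟨y, hy⟩).1 h1)
    simp only [gO, Groth.Agent.QC.resO, TopCat.Presheaf.germ_res_apply] at h2
    exact h2
  · choose c hc using fun x : O => (hb x).2 (res L (inf_le_left : O ⊓ U x ≤ O) m)
    obtain ⟨s, hs, -⟩ := TopCat.Sheaf.existsUnique_gluing' X.sheaf (fun x : O => O ⊓ U x) O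
      (fun x => homOfLE inf_le_left) (fun y hy => Opens.mem_iSup.mpr ⟨⟨y, hy⟩, hy, hxU _⟩) c (fun x x' => by
        have hb' : Function.Bijective fun c : Γ(X, (O ⊓ U x) ⊓ (O ⊓ U x')) =>
            c • res L ((inf_le_left.trans inf_le_left : (O ⊓ U x) ⊓ (O ⊓ U x') ≤ O).trans hO) e := by
          simpa only [res_res] using hgen x _ (inf_le_left.trans inf_le_right)
        refine hb'.1 ?_
        have h1 := congrArg (res L (inf_le_left : (O ⊓ U x) ⊓ (O ⊓ U x') ≤ O ⊓ U x)) (hc x)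
        have h2 := congrArg (res L (inf_le_right : (O ⊓ U x) ⊓ (O ⊓ U x') ≤ O ⊓ U x')) (hc x')
        simp only [res_smul, res_res] at h1 h2
        exact h1.trans h2.symm)
    refine ⟨s, Groth.Agent.QC.section_eq_of_locally fun y hy => ⟨O ⊓ U ⟨y, hy⟩, inf_le_left, And.intro hy (hxU _), ?_⟩⟩
    rw [← hc ⟨y, hy⟩, res_smul, res_res]
    exact congrArg (· • _) (hs ⟨y, hy⟩)

/-- Two families of opens: distinct members are disjoint; generators glue. -/
theorem exists_gen_of_disjoint {ι : Type u} (U : ι → X.Opens) (e : ∀ i, Γ(L, U i)) (he : ∀ i, TMul.IsGen (e i))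
    (hd : ∀ (i j : ι) (x : X), x ∈ U i → x ∈ U j → i = j) :
    ∃ g : Γ(L, iSup U), TMul.IsGen g := by
  classical
  obtain ⟨g, hg, -⟩ := TopCat.Sheaf.existsUnique_gluing' (Groth.Agent.QC.abSheaf L) U (iSup U)
    (fun i => homOfLE (le_iSup U i)) le_rfl e (fun i j => by
      refine Groth.Agent.QC.section_eq_of_locally (M := L) fun x hx => ?_
      obtain rfl := hd i j x hx.1 hx.2
      exact ⟨U i ⊓ U i, le_rfl, hx, rfl⟩)
  refine ⟨g, isGen_of_locally g fun x hx => ?_⟩
  obtain ⟨i, hi⟩ := Opens.mem_iSup.mp hx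
  refine ⟨U i, le_iSup U i, hi, ?_⟩
  rw [show res L (le_iSup U i) g = e i from hg i]
  exact he i

/-- On an affine open, an invertible module has a section generating near finitely many prescribed points. -/
theorem exists_gen_near_finite (hL : PicF.IsInvertible L) {W : X.Opens} (hW : IsAffineOpen W) (Z : Set X)
    (hZW : Z ⊆ W) (hZ : Z.Finite) :
    ∃ (V : X.Opens) (e : Γ(L, V)), Z ⊆ V ∧ TMul.IsGen e := by
  classical
  haveI : L.IsQuasicoherent := TMul.isQCoh_of_isInvertible hL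
  choose U e hzU he using fun z : Z => TMul.exists_isGen hL z.1
  choose h hhU hzh using fun z : Z => hW.exists_basicOpen_le ⟨z.1, (hzU z : z.1 ∈ U z)⟩ (hZW z.2)
  choose N t ht using fun z : Z => Groth.Agent.QC.exists_pow_smul_extends_of_isCompact (M := L) hW.isCompact
    hW.isQuasiSeparated (h z) (res L (hhU z) (e z))
  -- the maximal members
  let q : Z → Ideal Γ(X, W) := fun z => (hW.primeIdealOf ⟨z.1, hZW z.2⟩).asIdeal
  haveI : Fintype Z := hZ.fintype
  let M : Finset Z := Finset.univ.filter fun z => ∀ w, q z ≤ q w → q w ≤ q z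
  have hr : ∀ z ∈ M, ∃ r : Γ(X, W), r ∉ q z ∧ ∀ w ∈ M, ¬ q z ≤ q w → r ∈ q w := by
    intro z hz
    have hw : ∀ w : {w // w ∈ M ∧ ¬ q z ≤ q w}, ∃ r, r ∈ q w.1 ∧ r ∉ q z := fun w => by
      refine SetLike.not_le_iff_exists.mp fun hle => ?_
      exact w.2.2 ((Finset.mem_filter.mp w.2.1).2 z hle)
    choose r hr1 hr2 using hw
    refine ⟨∏ w, r w, fun hmem => ?_, fun w hw hne => ?_⟩
    · obtain ⟨w, -, hw⟩ := (Ideal.IsPrime.prod_mem_iff (hp := (hW.primeIdealOf ⟨z.1, hZW z.2⟩).2)).mp hmem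
      exact hr2 w hw
    · exact Ideal.mem_of_dvd _ (Finset.dvd_prod_of_mem r (Finset.mem_univ ⟨w, hw, hne⟩)) (hr1 ⟨w, hw, hne⟩)
  choose r hr1 hr2 using hr
  -- keep one member for each maximal prime
  let s : Γ(L, W) := ∑ z ∈ M.attach, r z.1 z.2 • t z.1
  have hgood : ∀ z ∈ M, ∃ c : X.presheaf.stalk z.1, IsUnit c ∧
      gL L z.1 (hZW z.2) s = c • gL L z.1 (hzU z) (e z) := by
    intro z hz
    have hterm : ∀ w : {w // w ∈ M}, ∃ c : X.presheaf.stalk z.1,
        gL L z.1 (hZW z.2) (r w.1 w.2 • t w.1) = c • gL L z.1 (hzU z) (e z) ∧ (w.1 = z → IsUnit c) ∧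
        (w.1 ≠ z → ¬ IsUnit c) := by
      intro w
      obtain ⟨c, hc⟩ := exists_coeff (he z) ⟨z.1, hzU z⟩ (gL L z.1 (hZW z.2) (t w.1))
      refine ⟨gO z.1 (hZW z.2) (r w.1 w.2) * c, by rw [gL_smul, hc, mul_smul], fun hwz => ?_, fun hwz => ?_⟩
      · obtain ⟨w, hwM⟩ := w
        obtain rfl : w = z := hwz
        letI := TopCat.Presheaf.algebra_section_stalk X.presheaf ⟨w.1, hZW w.2⟩
        haveI := hW.isLocalization_stalk ⟨w.1, hZW w.2⟩
        refine ((IsLocalization.AtPrime.isUnit_to_map_iff (↑(X.presheaf.stalk w.1) : Type u) (q w) _).mpr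
          (hr1 w hwM)).mul ?_
        have h1 := congrArg (gL L w.1 (hzh w)) (ht w)
        rw [gL_res, gL_smul, gL_res] at h1
        have h2 : c = gO w.1 (hzh w) (Groth.Agent.QC.resO X (X.basicOpen_le (h w)) (h w) ^ N w) := by
          refine sub_eq_zero.mp (coeff_eq_zero (he w) ⟨w.1, hzU w⟩ _ ?_)
          rw [sub_smul, ← hc, ← h1, sub_self]
        rw [h2, map_pow]
        refine IsUnit.pow _ ?_
        simp only [gO, Groth.Agent.QC.resO, TopCat.Presheaf.germ_res_apply]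
        exact (X.mem_basicOpen (h w) w.1 (hZW w.2)).mp (hzh w)
      · intro hu
        letI := TopCat.Presheaf.algebra_section_stalk X.presheaf ⟨z.1, hZW z.2⟩
        haveI := hW.isLocalization_stalk ⟨z.1, hZW z.2⟩
        have h3 := (IsLocalization.AtPrime.isUnit_to_map_iff (↑(X.presheaf.stalk z.1) : Type u) (q z) _).mp
          (isUnit_of_mul_isUnit_left hu)
        refine h3 (hr2 w.1 w.2 z hz fun hle => hwz ?_)
        have e1 : q w.1 = q z := le_antisymm hle ((Finset.mem_filter.mp w.2).2 z hle)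
        refine Subtype.ext ?_
        have e2 := congrArg hW.fromSpec (PrimeSpectrum.ext e1 :
          hW.primeIdealOf ⟨w.1.1, hZW w.1.2⟩ = hW.primeIdealOf ⟨z.1, hZW z.2⟩)
        rwa [hW.fromSpec_primeIdealOf, hW.fromSpec_primeIdealOf] at e2
    choose c hc hcu hcn using hterm
    refine ⟨∑ w ∈ M.attach, c w, ?_, ?_⟩
    · rw [← Finset.add_sum_erase _ _ (Finset.mem_attach M ⟨z, hz⟩)]
      refine IsLocalRing.notMem_maximalIdeal.mp fun hmem => ?_
      have hrest : ∑ w ∈ M.attach.erase ⟨z, hz⟩, c w ∈ IsLocalRing.maximalIdeal _ :=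
        Ideal.sum_mem _ fun w hw => hcn w fun hwz => (Finset.mem_erase.mp hw).1 (Subtype.ext hwz)
      exact (IsLocalRing.notMem_maximalIdeal.mpr (hcu ⟨z, hz⟩ rfl)) (by simpa using Ideal.sub_mem _ hmem hrest)
    · rw [Finset.sum_smul, map_sum]
      exact Finset.sum_congr rfl fun w _ => hc w
  have hnear : ∀ z : Z, ∃ (O : X.Opens) (hO : O ≤ W), z.1 ∈ O ∧ TMul.IsGen (res L hO s) := by
    intro z
    obtain ⟨m, hmM, hzm⟩ : ∃ m ∈ M, q z ≤ q m := by
      obtain ⟨m, hzm, hmax⟩ := Finite.exists_le_maximal (p := fun I : Set.range q => True) (a := ⟨q z, z, rfl⟩) trivial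
      obtain ⟨m', hm'⟩ := m.2
      refine ⟨m', Finset.mem_filter.mpr ⟨Finset.mem_univ _, fun w hw => ?_⟩, by rw [hm']; exact hzm⟩
      rw [hm'] at hw ⊢
      exact hmax.2 (y := ⟨q w, w, rfl⟩) trivial hw
    obtain ⟨c, hc, hs⟩ := hgood m hmM
    obtain ⟨c', hc'⟩ := (he m (W ⊓ U m) inf_le_right).2 (res L inf_le_left s)
    have hmW : m.1 ∈ W ⊓ U m := ⟨hZW m.2, hzU m⟩
    have hcu : IsUnit (gO m.1 hmW c') := by
      have h1 := congrArg (gL L m.1 hmW) hc'
      rw [gL_smul, gL_res, gL_res, hs] at h1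
      rwa [sub_eq_zero.mp (coeff_eq_zero (he m) ⟨m.1, hzU m⟩ (gO m.1 hmW c' - c) (by rw [sub_smul, h1, sub_self]))]
    let O := X.basicOpen c'
    have hmO : m.1 ∈ O := (X.mem_basicOpen c' m.1 hmW).mpr hcu
    refine ⟨O, (X.basicOpen_le c').trans inf_le_left, ?_, fun O' hO' => ?_⟩
    · refine Specializes.mem_open ?_ O.2 hmO
      have h4 : hW.primeIdealOf ⟨z.1, hZW z.2⟩ ⤳ hW.primeIdealOf ⟨m.1, hZW m.2⟩ :=
        (PrimeSpectrum.le_iff_specializes _ _).mp hzm
      have := h4.map hW.fromSpec.continuous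
      rwa [hW.fromSpec_primeIdealOf, hW.fromSpec_primeIdealOf] at this
    · have hle : O' ≤ W ⊓ U m := hO'.trans (X.basicOpen_le c')
      have hu : IsUnit (Groth.Agent.QC.resO X hle c') := by
        have h5 := RingedSpace.isUnit_res_basicOpen _ c'
        have h6 : X.presheaf.map (homOfLE hO').op (X.presheaf.map (homOfLE (X.basicOpen_le c')).op c') =
            Groth.Agent.QC.resO X hle c' := Groth.Agent.QC.resO_resO _ _ _
        rw [← h6]
        exact h5.map (X.presheaf.map (homOfLE hO').op).hom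
      have e1 : (fun d : Γ(X, O') => d • res L hO' (res L ((X.basicOpen_le c').trans inf_le_left) s)) =
          (fun d : Γ(X, O') => d • res L (hle.trans inf_le_right) (e m)) ∘ fun d => d * Groth.Agent.QC.resO X hle c' := by
        funext d
        have h7 := congrArg (res L hle) hc'
        simp only [res_smul, res_res] at h7
        simp only [Function.comp, mul_smul, h7]
        exact congrArg (d • ·) (res_res L _ _ s)
      rw [e1]
      exact (he m O' (hle.trans inf_le_right)).comp hu.unit.mulRight_bijective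
  choose O hO hzO hgen using hnear
  refine ⟨⨆ z, O z, res L (iSup_le hO) s, fun x hx => Opens.mem_iSup.mpr ⟨⟨x, hx⟩, hzO _⟩, isGen_of_locally _ fun x hx => ?_⟩
  obtain ⟨z, hz⟩ := Opens.mem_iSup.mp hx
  exact ⟨O z, le_iSup O z, hz, by rw [res_res]; exact hgen z⟩

end Groth.Agent.MeroLib
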