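import Groth.Agent.MeroLib.Basic
import Groth.Agent.TMul.Power
import Groth.Agent.RelTilde.Tensor

/-!
Meromorphic sections of modules with local generators.
-/

set_option autoImplicit false
set_option backward.isDefEq.respectTransparency false

universe u

open CategoryTheory AlgebraicGeometry TopologicalSpace Opposite
open Groth.Agent.QC (res res_res app_res)

noncomputable section

namespace Groth.Agent.MeroLib

open Mero

variable {X : Scheme.{u}} {L : X.Modules}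

/-- The germ map of a module. -/
abbrev gL (L : X.Modules) {U : X.Opens} (y : X) (hy : y ∈ U) : Γ(L, U) →+ L.presheaf.stalk y :=
  (L.presheaf.germ U y hy).hom

/-- `m ↦ m / 1` at a stalk. -/
abbrev mOne {y : X} (m : L.presheaf.stalk y) : MStalk L y := LocalizedModule.mk m 1

theorem gL_res {U V : X.Opens} (h : V ≤ U) (m : Γ(L, U)) (y : X) (hy : y ∈ V) :
    gL L y hy (res L h m) = gL L y (h hy) m :=
  TopCat.Presheaf.germ_res_apply L.presheaf _ y hy m

theorem gL_smul {U : X.Opens} (r : Γ(X, U)) (m : Γ(L, U)) (y : X) (hy : y ∈ U) :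
    gL L y hy (r • m) = gO y hy r • gL L y hy m :=
  Mero.germ_smul L U y hy r m

/-- A generator spans the stalks. -/
theorem exists_coeff {U : X.Opens} {e : Γ(L, U)} (he : TMul.IsGen e) (y : U) (z : L.presheaf.stalk y.1) :
    ∃ c : X.presheaf.stalk y.1, z = c • gL L y.1 y.2 e := by
  obtain ⟨V, hyV, m, rfl⟩ := TopCat.Presheaf.exists_germ_eq (C := Ab.{u}) L.presheaf z
  have hy : y.1 ∈ (V : X.Opens) ⊓ U := And.intro hyV y.2
  obtain ⟨c, hc⟩ := (he _ inf_le_right).2 (res L (inf_le_left : (V : X.Opens) ⊓ U ≤ V) m)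
  refine ⟨gO y.1 hy c, ?_⟩
  have h1 := congrArg (gL L y.1 hy) hc
  rw [gL_smul, gL_res, gL_res] at h1
  exact h1.symm

/-- A generator is free on stalks. -/
theorem coeff_eq_zero {U : X.Opens} {e : Γ(L, U)} (he : TMul.IsGen e) (y : U) (c : X.presheaf.stalk y.1)
    (h : c • gL L y.1 y.2 e = 0) : c = 0 := by
  obtain ⟨V, hyV, r, rfl⟩ := TopCat.Presheaf.exists_germ_eq (C := CommRingCat) X.presheaf c
  have hy : y.1 ∈ (V : X.Opens) ⊓ U := And.intro hyV y.2
  have h1 : gL L y.1 hy ((X.presheaf.map (homOfLE (inf_le_left : (V : X.Opens) ⊓ U ≤ V)).op r : Γ(X, (V : X.Opens) ⊓ U)) •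
      res L inf_le_right e) = gL L y.1 hy 0 := by
    rw [gL_smul, gL_res, map_zero]
    simp only [gO, TopCat.Presheaf.germ_res_apply]
    exact h
  obtain ⟨O, hyO, i₁, i₂, e0⟩ := L.presheaf.germ_eq y.1 _ _ _ _ h1
  rw [map_zero] at e0
  erw [Scheme.Modules.map_smul] at e0
  have e1 : (X.presheaf.map i₁.op (X.presheaf.map (homOfLE (inf_le_left : (V : X.Opens) ⊓ U ≤ V)).op r)) •
      res L (i₁.le.trans inf_le_right) e = 0 := by
    rw [← res_res L i₁.le (inf_le_right : (V : X.Opens) ⊓ U ≤ U)]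
    exact e0
  have h2 := congrArg (gO y.1 hyO) ((he O (i₁.le.trans inf_le_right)).1 (e1.trans (zero_smul Γ(X, O) _).symm))
  simp only [gO, TopCat.Presheaf.germ_res_apply, map_zero] at h2
  exact h2

theorem iK_smul_mOne {y : X} (r : X.presheaf.stalk y) (m : L.presheaf.stalk y) :
    iK y r • mOne m = mOne (r • m) := by
  change Localization.mk r 1 • LocalizedModule.mk m 1 = _
  rw [LocalizedModule.mk_smul_mk, one_mul]

theorem mk_smul_mOne {y : X} (r : X.presheaf.stalk y) (s : regStalk X y) (m : L.presheaf.stalk y) :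
    (LocalizedModule.mk r s : KStalk X y) • mOne m = LocalizedModule.mk (r • m) s := by
  change Localization.mk r s • LocalizedModule.mk m 1 = _
  rw [LocalizedModule.mk_smul_mk, mul_one]

theorem exists_KStalk_coeff {U : X.Opens} {e : Γ(L, U)} (he : TMul.IsGen e) (y : U) (t : MStalk L y.1) :
    ∃ q : KStalk X y.1, t = q • mOne (gL L y.1 y.2 e) := by
  induction t using LocalizedModule.induction_on with
  | h m s =>
    obtain ⟨c, rfl⟩ := exists_coeff he y m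
    exact ⟨LocalizedModule.mk c s, (mk_smul_mOne c s _).symm⟩

theorem KStalk_coeff_eq_zero {U : X.Opens} {e : Γ(L, U)} (he : TMul.IsGen e) (y : U) (q : KStalk X y.1)
    (h : q • mOne (gL L y.1 y.2 e) = 0) : q = 0 := by
  induction q using LocalizedModule.induction_on with
  | h r s =>
    rw [mk_smul_mOne, ← LocalizedModule.zero_mk s, LocalizedModule.mk_eq] at h
    obtain ⟨t, ht⟩ := h
    simp only [Submonoid.smul_def, smul_zero, smul_smul] at ht
    have h1 := coeff_eq_zero he y _ ht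
    rw [← mul_assoc] at h1
    have h2 : r = 0 := (mul_left_mem_nonZeroDivisors_eq_zero_iff
      (mul_mem (regStalk_le_nonZeroDivisors _ t.2) (regStalk_le_nonZeroDivisors _ s.2))).mp h1
    rw [h2, LocalizedModule.zero_mk]

theorem KStalk_coeff_inj {U : X.Opens} {e : Γ(L, U)} (he : TMul.IsGen e) (y : U) (q q' : KStalk X y.1)
    (h : q • mOne (gL L y.1 y.2 e) = q' • mOne (gL L y.1 y.2 e)) : q = q' :=
  sub_eq_zero.mp (KStalk_coeff_eq_zero he y _ (by rw [sub_smul, h, sub_self]))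

theorem isGen_gen (D : Divisor X) {U : X.Opens} (f : (Γ(kmod X, U))ˣ) (hf : ∀ y : U, D.1 y.1 = germOf f y) :
    TMul.IsGen (gen D f hf) := by
  refine fun V hV => ⟨fun c c' hcc => ?_, fun t => ?_⟩
  · refine TopCat.Presheaf.section_ext X.sheaf V c c' fun y hy => iK_inj y ?_
    have h1 : gO y hy c • ((f⁻¹ : (Γ(kmod X, U))ˣ) : Γ(kmod X, U)).1 ⟨y, hV hy⟩ =
        gO y hy c' • ((f⁻¹ : (Γ(kmod X, U))ˣ) : Γ(kmod X, U)).1 ⟨y, hV hy⟩ :=
      congrArg (fun w : Γ(divMod D, V) => w.1 ⟨y, hy⟩) hcc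
    rw [Algebra.smul_def, Algebra.smul_def] at h1
    exact ((uval f ⟨y, hV hy⟩)⁻¹).isUnit.mul_left_injective h1
  · let t0 : Γ(kmod X, V) := ⟨t.1, t.2.1⟩
    obtain ⟨c, hc⟩ := exists_of_range (t0 * (kmod X).presheaf.map (homOfLE hV).op (f : Γ(kmod X, U))) fun y =>
      (divCond_iff (hf ⟨y.1, hV y.2⟩) _).mp (t.2.2 y)
    refine ⟨c, Subtype.ext (funext fun y => ?_)⟩
    change gO y.1 y.2 c • ((f⁻¹ : (Γ(kmod X, U))ˣ) : Γ(kmod X, U)).1 ⟨y.1, hV y.2⟩ = t.1 y
    rw [Algebra.smul_def, show algebraMap _ _ (gO y.1 y.2 c) = _ from (hc y).symm, kmod_mul_apply, res_val,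
      mul_assoc, mul_comm ((f : Γ(kmod X, U)).1 _), uval_inv, mul_one]

theorem IsGen.map_iso {M : X.Modules} (φ : L ⟶ M) [IsIso φ] {U : X.Opens} {e : Γ(L, U)} (he : TMul.IsGen e) :
    TMul.IsGen (φ.app U e) := fun V hV => by
  have h : (fun c : Γ(X, V) => c • res M hV (φ.app U e)) = fun c => φ.app V (c • res L hV e) :=
    funext fun c => by rw [Scheme.Modules.Hom.app_smul, ← app_res]
  rw [h]
  exact (ConcreteCategory.bijective_of_isIso (φ.app V)).comp (he V hV)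

/-- An invertible module isomorphic to `O(D)` has a regular meromorphic section. -/
theorem hasRegularMero_of_iso (D : Divisor X) (i : divMod D ≅ L) : HasRegularMero L := by
  choose U f hU hxU hf using exists_local D
  have key : ∀ (x x' : X) (y : X) (hy : y ∈ U x) (hy' : y ∈ U x'),
      (f x : Γ(kmod X, U x)).1 ⟨y, hy⟩ • mOne (gL L y hy (i.hom.app _ (gen D (f x) (hf x)))) =
      (f x' : Γ(kmod X, U x')).1 ⟨y, hy'⟩ • mOne (gL L y hy' (i.hom.app _ (gen D (f x') (hf x')))) := by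
    intro x x' y hy hy'
    have hy2 : y ∈ U x ⊓ U x' := And.intro hy hy'
    obtain ⟨c, hc⟩ := (isGen_gen D (f x) (hf x) (U x ⊓ U x') inf_le_left).2
      (res (divMod D) inf_le_right (gen D (f x') (hf x')))
    have h1 : iK y (gO y hy2 c) * ((f x)⁻¹ : (Γ(kmod X, U x))ˣ).1.1 ⟨y, hy⟩ =
        ((f x')⁻¹ : (Γ(kmod X, U x'))ˣ).1.1 ⟨y, hy'⟩ :=
      (Algebra.smul_def _ _).symm.trans (congrArg (fun w : Γ(divMod D, U x ⊓ U x') => w.1 ⟨y, hy2⟩) hc)
    have h2 := congrArg (fun w => gL L y hy2 (i.hom.app _ w)) hc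
    simp only [Scheme.Modules.Hom.app_smul, ← app_res, gL_smul, gL_res] at h2
    rw [← h2, ← iK_smul_mOne, smul_smul]
    congr 1
    calc (f x : Γ(kmod X, U x)).1 ⟨y, hy⟩
        = (f x : Γ(kmod X, U x)).1 ⟨y, hy⟩ * (((f x')⁻¹ : (Γ(kmod X, U x'))ˣ).1.1 ⟨y, hy'⟩ *
            (f x' : Γ(kmod X, U x')).1 ⟨y, hy'⟩) := by rw [uval_inv, mul_one]
      _ = (f x' : Γ(kmod X, U x')).1 ⟨y, hy'⟩ * iK y (gO y hy2 c) *
            (((f x)⁻¹ : (Γ(kmod X, U x))ˣ).1.1 ⟨y, hy⟩ * (f x : Γ(kmod X, U x)).1 ⟨y, hy⟩) := by rw [← h1]; ring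
      _ = _ := by rw [uval_inv, mul_one]
  let φ : ∀ y : (⊤ : X.Opens), MStalk L y.1 := fun y =>
    (f y.1 : Γ(kmod X, U y.1)).1 ⟨y.1, hxU y.1⟩ • mOne (gL L y.1 (hxU y.1) (i.hom.app _ (gen D (f y.1) (hf y.1))))
  refine ⟨⟨φ, fun x => ?_⟩, fun x q hq => ?_⟩
  · obtain ⟨W, hWU, a, b, -, hxW, hb, hab⟩ := exists_frac (f x.1 : Γ(kmod X, U x.1)) ⟨x.1, hxU x.1⟩
    refine ⟨W, hxW, homOfLE le_top, a • res L hWU (i.hom.app _ (gen D (f x.1) (hf x.1))), ⟨b, hb⟩, fun y => ?_⟩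
    change φ ⟨y.1, trivial⟩ = _
    rw [show φ ⟨y.1, trivial⟩ = _ from key y.1 x.1 y.1 (hxU y.1) (hWU y.2), eq_mk_of_mul_iK (s := regGerm y ⟨b, hb⟩) (hab y),
      mk_smul_mOne]
    refine mk_congr ?_ rfl
    change _ = gL L y.1 y.2 _
    rw [gL_smul, gL_res]
  · refine (uval (f x) ⟨x, hxU x⟩).isUnit.mul_left_eq_zero.mp
      (KStalk_coeff_eq_zero (IsGen.map_iso i.hom (isGen_gen D (f x) (hf x))) ⟨x, hxU x⟩ _ ?_)
    rw [uval_val, mul_smul]
    exact hq

/-- The divisor of a regular meromorphic section, and `L ≅ O(D)`. -/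
theorem exists_iso_divMod (hL : PicF.IsInvertible L) (hs : HasRegularMero L) :
    ∃ D : Divisor X, Nonempty (L ≅ divMod D) := by
  obtain ⟨s, hs⟩ := hs
  -- local data
  have loc : ∀ x : X, ∃ (W : X.Opens) (_ : x ∈ W) (e : Γ(L, W)) (g : (Γ(kmod X, W))ˣ), TMul.IsGen e ∧
      ∀ y : W, s.1 ⟨y.1, trivial⟩ = (g : Γ(kmod X, W)).1 y • mOne (gL L y.1 y.2 e) := fun x => by
    obtain ⟨U, e, hxU, he⟩ := TMul.exists_isGen hL x
    obtain ⟨V, hxV, ι, m, b, hmb⟩ := s.2 ⟨x, trivial⟩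
    obtain ⟨c, hc⟩ := (he (V ⊓ U) inf_le_right).2 (res L inf_le_left m)
    let b' : Γ(X, V ⊓ U) := X.presheaf.map (homOfLE inf_le_left).op b.1
    have hb' : b' ∈ regSub X (V ⊓ U) := regSub_res _ b.2
    have hs' : ∀ y : (V ⊓ U : X.Opens), s.1 ⟨y.1, trivial⟩ =
        (LocalizedModule.mk (gO y.1 y.2 c) (regGerm y ⟨b', hb'⟩) : KStalk X y.1) • mOne (gL L y.1 y.2.2 e) := fun y => by
      refine (hmb ⟨y.1, y.2.1⟩).trans ?_
      rw [mk_smul_mOne]
      refine mk_congr ?_ (TopCat.Presheaf.germ_res_apply X.presheaf _ y.1 y.2 b.1).symm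
      have h1 := congrArg (gL L y.1 y.2) hc
      rw [gL_smul, gL_res, gL_res] at h1
      exact h1.symm
    have hc' : c ∈ regSub X (V ⊓ U) := fun y => by
      refine mem_nonZeroDivisors_iff_right.2 fun d hd => iK_inj y.1 ?_
      rw [map_zero]
      refine hs y.1 _ ?_
      rw [show s.1 ⟨y.1, Opens.mem_top y.1⟩ = _ from hs' y, smul_smul]
      change (Localization.mk d 1 * Localization.mk (gO y.1 y.2 c) _ : KStalk X y.1) • _ = 0
      rw [Localization.mk_mul, show d * gO y.1 y.2 c = 0 from hd, Localization.mk_zero, zero_smul]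
    obtain ⟨g, hg⟩ := exists_section (U := V ⊓ U)
      (fun y => (LocalizedModule.mk (gO y.1 y.2 c) (regGerm y ⟨b', hb'⟩) : KStalk X y.1))
      fun y => ⟨V ⊓ U, le_rfl, c, b', y.2, hb', fun z => mk_mul_iK _ _⟩
    have hu : IsUnit g := isUnit_of_regular g fun y => ⟨V ⊓ U, le_rfl, c, b', y.2, hc', hb', fun z => by
      rw [hg]; exact mk_mul_iK _ _⟩
    refine ⟨V ⊓ U, ⟨hxV, hxU⟩, res L inf_le_right e, hu.unit, fun W hW => by
      simpa only [res_res] using he W (hW.trans inf_le_right), fun y => ?_⟩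
    rw [hs' y, IsUnit.unit_spec, hg, gL_res]
  choose W hxW e g he hg using loc
  have hindep : ∀ (x : X) (y : W x), (germOf (g y.1) ⟨y.1, hxW y.1⟩ : Germ X y.1) = germOf (g x) y := by
    intro x y
    obtain ⟨c, hc⟩ := exists_coeff (he y.1) ⟨y.1, hxW y.1⟩ (gL L y.1 y.2 (e x))
    obtain ⟨c', hc'⟩ := exists_coeff (he x) y (gL L y.1 (hxW y.1) (e y.1))
    have hcc : c * c' = 1 := by
      refine sub_eq_zero.mp (coeff_eq_zero (he x) y _ ?_)
      rw [sub_smul, one_smul, mul_smul, ← hc', ← hc, sub_self]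
    rw [germOf_eq, germOf_eq, mk_eq_mk_iff]
    refine ⟨c', IsUnit.of_mul_eq_one c (by rw [mul_comm, hcc]), KStalk_coeff_inj (he x) y _ _ ?_⟩
    rw [uval_val, uval_val, ← hg x y, mul_smul, iK_smul_mOne, ← hc']
    exact hg y.1 ⟨y.1, hxW y.1⟩
  let D : Divisor X := ⟨fun x => germOf (g x) ⟨x, hxW x⟩, fun x => ⟨W x, hxW x, g x, fun y => hindep x y⟩⟩
  have hD : ∀ (x : X) (y : W x), D.1 y.1 = germOf (g x) y := fun x y => hindep x y
  have hq : ∀ (y : X) (t : L.presheaf.stalk y), ∃ q : KStalk X y, mOne t = q • s.1 ⟨y, Opens.mem_top y⟩ ∧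
      DivCond D y q := by
    intro y t
    obtain ⟨c, rfl⟩ := exists_coeff (he y) ⟨y, hxW y⟩ t
    refine ⟨iK y c * ((g y)⁻¹ : (Γ(kmod X, W y))ˣ).1.1 ⟨y, hxW y⟩, ?_,
      (divCond_iff (hD y ⟨y, hxW y⟩) _).mpr ⟨c, ?_⟩⟩
    · rw [hg y ⟨y, hxW y⟩, smul_smul, mul_assoc, uval_inv, mul_one, iK_smul_mOne]
    · rw [uval_val, mul_assoc, uval_inv, mul_one]
  choose q hq1 hq2 using hq
  have quniq : ∀ (y : X) (t : L.presheaf.stalk y) (p : KStalk X y), mOne t = p • s.1 ⟨y, Opens.mem_top y⟩ → q y t = p :=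
    fun y t p hp => sub_eq_zero.mp (hs y _ (by rw [sub_smul, ← hq1, ← hp, sub_self]))
  have qval : ∀ (x : X) (V : X.Opens) (hV : V ≤ W x) (c : Γ(X, V)) (y : V),
      q y.1 (gL L y.1 y.2 (c • res L hV (e x))) =
        iK y.1 (gO y.1 y.2 c) * ((g x)⁻¹ : (Γ(kmod X, W x))ˣ).1.1 ⟨y.1, hV y.2⟩ := fun x V hV c y => by
    refine quniq _ _ _ ?_
    rw [show s.1 ⟨y.1, Opens.mem_top y.1⟩ = _ from hg x ⟨y.1, hV y.2⟩, smul_smul, mul_assoc, uval_inv, mul_one, iK_smul_mOne,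
      gL_smul, gL_res]
  have qadd : ∀ (y : X) (t t' : L.presheaf.stalk y), q y (t + t') = q y t + q y t' := fun y t t' =>
    quniq _ _ _ (by rw [add_smul, ← hq1, ← hq1, LocalizedModule.mk_add_mk, one_smul, one_smul, mul_one])
  have qsmul : ∀ (y : X) (r : X.presheaf.stalk y) (t : L.presheaf.stalk y), q y (r • t) = r • q y t := fun y r t =>
    quniq _ _ _ (by rw [Algebra.smul_def, mul_smul, ← hq1]; exact (iK_smul_mOne r t).symm)
  let app : ∀ V : X.Opens, Γ(L, V) → Γ(divMod D, V) := fun V m =>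
    ⟨fun y => q y.1 (gL L y.1 y.2 m), fun z => by
      obtain ⟨c, hc⟩ := (he z.1 (V ⊓ W z.1) inf_le_right).2 (res L inf_le_left m)
      obtain ⟨T, hzT, ι, a, b, hab⟩ := ((kmod X).presheaf.map (homOfLE (inf_le_right : V ⊓ W z.1 ≤ W z.1)).op
        (((g z.1)⁻¹ : (Γ(kmod X, W z.1))ˣ) : Γ(kmod X, W z.1))).2 ⟨z.1, z.2, hxW z.1⟩
      refine ⟨T, hzT, homOfLE (ι.le.trans inf_le_left), X.presheaf.map ι.op c * a, b, fun y => ?_⟩
      change q y.1 (gL L y.1 (ι.le y.2).1 m) = _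
      have h0 := congrArg (gL L y.1 (ι.le y.2)) hc
      rw [gL_res] at h0
      rw [← h0, qval z.1 _ inf_le_right c ⟨y.1, ι.le y.2⟩, show ((g z.1)⁻¹ : (Γ(kmod X, W z.1))ˣ).1.1 ⟨y.1, _⟩ = _ from hab y]
      change Localization.mk (gO y.1 _ c) 1 * Localization.mk _ _ = (Localization.mk _ _ : KStalk X y.1)
      rw [Localization.mk_mul, one_mul, map_mul]
      congr 1
      exact congrArg (· * _) (TopCat.Presheaf.germ_res_apply X.presheaf ι y.1 y.2 c).symm,
      fun y => hq2 y.1 _⟩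
  let φ : L ⟶ divMod D :=
    ⟨PresheafOfModules.homMk (M₁ := L.val) (M₂ := (divMod D).val)
      { app := fun V => AddCommGrpCat.ofHom (AddMonoidHom.mk' (app V.unop) fun m m' =>
          Subtype.ext (funext fun y => (congrArg (q y.1) (map_add (gL L y.1 y.2) m m')).trans (qadd _ _ _)))
        naturality := fun V V' i => by
          ext m
          exact Subtype.ext (funext fun y => congrArg (q y.1) (TopCat.Presheaf.germ_res_apply' L.presheaf i y.1 y.2 m)) }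
      fun V r m => Subtype.ext (funext fun y => (congrArg (q y.1) (gL_smul r m y.1 y.2)).trans (qsmul _ _ _))⟩
  haveI : IsIso φ := RelTilde.isIso_of_bijective_near φ fun x => by
    refine ⟨W x, hxW x, fun V hV => ?_⟩
    have h1 := he x V hV
    have h2 := isGen_gen D (g x) (hD x) V hV
    refine (Function.Bijective.of_comp_iff _ h1).mp ?_
    refine Eq.mpr (congrArg _ (funext fun c => Subtype.ext (funext fun y => ?_))) h2
    change q y.1 (gL L y.1 y.2 (c • res L hV (e x))) = gO y.1 y.2 c • ((g x)⁻¹ : (Γ(kmod X, W x))ˣ).1.1 ⟨y.1, hV y.2⟩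
    rw [qval x V hV c y, Algebra.smul_def]
  exact ⟨D, ⟨asIso φ⟩⟩

end Groth.Agent.MeroLib
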