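import Groth.Prelude.Def_MeroDiv
import Groth.Agent.QC.Sections
import Mathlib

/-!
Meromorphic functions and divisors: pointwise API.
-/

set_option autoImplicit false
set_option backward.isDefEq.respectTransparency false

universe u

open CategoryTheory AlgebraicGeometry TopologicalSpace Opposite

noncomputable section

namespace Groth.Agent.MeroLib

open Mero

variable {X : Scheme.{u}}

/-- The germ map of the structure sheaf. -/
abbrev gO {U : X.Opens} (y : X) (hy : y ∈ U) : Γ(X, U) →+* X.presheaf.stalk y := (X.presheaf.germ U y hy).hom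

/-- `O_{X,x} → K_{X,x}`. -/
abbrev iK (x : X) : X.presheaf.stalk x →+* KStalk X x := algebraMap _ _

theorem iK_inj (x : X) : Function.Injective (iK x) := algebraMap_KStalk_injective x

theorem mk_mul_iK {x : X} (a : X.presheaf.stalk x) (s : regStalk X x) :
    (LocalizedModule.mk a s : KStalk X x) * iK x s = iK x a := by
  change (Localization.mk a s : KStalk X x) * algebraMap _ _ (s : X.presheaf.stalk x) = algebraMap _ _ a
  rw [Localization.mk_eq_mk']
  exact IsLocalization.mk'_spec _ _ _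

theorem eq_mk_of_mul_iK {x : X} {t : KStalk X x} {a : X.presheaf.stalk x} {s : regStalk X x}
    (h : t * iK x s = iK x a) : t = LocalizedModule.mk a s :=
  (IsLocalization.map_units (KStalk X x) s).mul_left_injective (h.trans (mk_mul_iK a s).symm)

theorem isUnit_iK_of_mem {x : X} {s : X.presheaf.stalk x} (hs : s ∈ regStalk X x) : IsUnit (iK x s) :=
  IsLocalization.map_units (KStalk X x) (⟨s, hs⟩ : regStalk X x)

theorem toK_val {U : X.Opens} (r : Γ(X, U)) (y : U) : (toK X U r).1 y = iK y.1 (gO y.1 y.2 r) := rfl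

theorem smul_val {U : X.Opens} (r : Γ(X, U)) (f : Γ(kmod X, U)) (y : U) :
    (r • f).1 y = iK y.1 (gO y.1 y.2 r) * f.1 y := by
  rw [show (r • f).1 y = gO y.1 y.2 r • f.1 y from rfl, Algebra.smul_def]

theorem res_val {U V : X.Opens} (h : V ≤ U) (f : Γ(kmod X, U)) (y : V) :
    ((kmod X).presheaf.map (homOfLE h).op f).1 y = f.1 ⟨y.1, h y.2⟩ := rfl

/-- Near every point a meromorphic function is one fraction. -/
theorem exists_frac {U : X.Opens} (f : Γ(kmod X, U)) (x : U) :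
    ∃ (W : X.Opens) (hWU : W ≤ U) (a b : Γ(X, W)), IsAffineOpen W ∧ x.1 ∈ W ∧ b ∈ regSub X W ∧
      ∀ y : W, f.1 ⟨y.1, hWU y.2⟩ * iK y.1 (gO y.1 y.2 b) = iK y.1 (gO y.1 y.2 a) := by
  obtain ⟨V, hx, i, a, b, h⟩ := (f : Γ(modOf (kLoc X), U)).2 x
  obtain ⟨W, hW, hxW, hWV⟩ := TopologicalSpace.Opens.isBasis_iff_nbhd.mp X.isBasis_affineOpens hx
  refine ⟨W, hWV.trans i.le, X.presheaf.map (homOfLE hWV).op a, X.presheaf.map (homOfLE hWV).op b.1,
    hW, hxW, regSub_res _ b.2, fun y => ?_⟩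
  simp only [gO, TopCat.Presheaf.germ_res_apply]
  have h' : f.1 ⟨y.1, (hWV.trans i.le) y.2⟩ = _ := h ⟨y.1, hWV y.2⟩
  rw [h']
  exact mk_mul_iK _ (regGerm ⟨y.1, hWV y.2⟩ b)

/-- A family of stalk elements that is locally a fraction is a meromorphic function. -/
theorem exists_section {U : X.Opens} (φ : ∀ y : U, KStalk X y.1)
    (h : ∀ x : U, ∃ (W : X.Opens) (hWU : W ≤ U) (a b : Γ(X, W)), x.1 ∈ W ∧ b ∈ regSub X W ∧
      ∀ y : W, φ ⟨y.1, hWU y.2⟩ * iK y.1 (gO y.1 y.2 b) = iK y.1 (gO y.1 y.2 a)) :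
    ∃ f : Γ(kmod X, U), f.1 = φ := by
  refine ⟨⟨φ, fun x => ?_⟩, rfl⟩
  obtain ⟨W, hWU, a, b, hx, hb, h⟩ := h x
  exact ⟨W, hx, homOfLE hWU, a, ⟨b, hb⟩, fun y => eq_mk_of_mul_iK (h y)⟩

/-- Numerators of units are regular. -/
theorem regular_of_isUnit {x : X} {t : KStalk X x} (ht : IsUnit t) {a b : X.presheaf.stalk x}
    (hb : b ∈ regStalk X x) (h : t * iK x b = iK x a) : a ∈ nonZeroDivisors (X.presheaf.stalk x) := by
  refine mem_nonZeroDivisors_iff_right.2 fun c hc => iK_inj x ?_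
  have h1 : iK x c * iK x a = 0 := by rw [← map_mul, hc, map_zero]
  rw [← h, (ht.mul (isUnit_iK_of_mem hb)).mul_left_eq_zero] at h1
  rw [h1, map_zero]

/-- A meromorphic function with regular numerators is a unit. -/
theorem isUnit_of_regular {U : X.Opens} (f : Γ(kmod X, U))
    (h : ∀ x : U, ∃ (W : X.Opens) (hWU : W ≤ U) (a b : Γ(X, W)), x.1 ∈ W ∧ a ∈ regSub X W ∧ b ∈ regSub X W ∧
      ∀ y : W, f.1 ⟨y.1, hWU y.2⟩ * iK y.1 (gO y.1 y.2 b) = iK y.1 (gO y.1 y.2 a)) : IsUnit f := by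
  classical
  have hu : ∀ y : U, IsUnit (f.1 y) := fun y => by
    obtain ⟨W, hWU, a, b, hx, ha, hb, h⟩ := h y
    refine isUnit_of_mul_isUnit_left (y := iK y.1 (gO y.1 hx b)) ?_
    rw [show f.1 y * _ = _ from h ⟨y.1, hx⟩]
    exact isUnit_iK_of_mem (germ_mem_regStalk ⟨y.1, hx⟩ ha)
  obtain ⟨g, hg⟩ := exists_section (fun y : U => ((hu y).unit⁻¹ : (KStalk X y.1)ˣ).1) fun x => by
    obtain ⟨W, hWU, a, b, hx, ha, hb, h⟩ := h x
    refine ⟨W, hWU, b, a, hx, ha, fun y => ?_⟩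
    rw [← h y, ← mul_assoc, IsUnit.val_inv_mul, one_mul]
  refine IsUnit.of_mul_eq_one g (Subtype.ext (funext fun y => ?_))
  rw [kmod_mul_apply, hg, kmod_one_apply, IsUnit.mul_val_inv]

/-- A divisor is, near every point, the divisor of one unit. -/
theorem exists_local (D : Divisor X) (x : X) :
    ∃ (U : X.Opens) (f : (Γ(kmod X, U))ˣ), IsAffineOpen U ∧ x ∈ U ∧ ∀ y : U, D.1 y.1 = germOf f y := by
  obtain ⟨V, hx, f, hf⟩ := D.2 x
  obtain ⟨W, hW, hxW, hWV⟩ := TopologicalSpace.Opens.isBasis_iff_nbhd.mp X.isBasis_affineOpens hx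
  refine ⟨W, Units.map ((kring X).obj.map (homOfLE hWV).op).hom.toMonoidHom f, hW, hxW, fun y => ?_⟩
  rw [hf ⟨y.1, hWV y.2⟩]
  exact congrArg _ (Units.ext rfl)

/-- The value of a unit at a point. -/
abbrev uval {U : X.Opens} (f : (Γ(kmod X, U))ˣ) (y : U) : (KStalk X y.1)ˣ :=
  Units.map (evalK X U y).toMonoidHom f

theorem mk_eq_mk_iff {x : X} (g g' : (KStalk X x)ˣ) :
    (QuotientGroup.mk g : Germ X x) = QuotientGroup.mk g' ↔
      ∃ c : X.presheaf.stalk x, IsUnit c ∧ (g' : KStalk X x) = g * iK x c := by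
  rw [QuotientGroup.eq]
  constructor
  · rintro ⟨c, hc⟩
    refine ⟨c, c.isUnit, ?_⟩
    have := congrArg (fun w : (KStalk X x)ˣ => ((g * w : (KStalk X x)ˣ) : KStalk X x)) hc
    simp only [mul_inv_cancel_left] at this
    exact this.symm
  · rintro ⟨c, hc, h⟩
    refine ⟨hc.unit, Units.ext ?_⟩
    change iK x c = ((g⁻¹ * g' : (KStalk X x)ˣ) : KStalk X x)
    rw [Units.val_mul, h, ← mul_assoc, Units.inv_mul, one_mul]

theorem divCond_iff {D : Divisor X} {x : X} {g : (KStalk X x)ˣ} (hg : D.1 x = QuotientGroup.mk g)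
    (t : KStalk X x) : DivCond D x t ↔ t * g ∈ (iK x).range := by
  refine ⟨fun h => h g hg, fun h g' hg' => ?_⟩
  obtain ⟨c, -, e⟩ := (mk_eq_mk_iff g g').mp (hg.symm.trans hg')
  obtain ⟨r, hr⟩ := h
  refine ⟨r * c, ?_⟩
  rw [e, map_mul, ← mul_assoc, ← hr]

/-- A function killed on the non-vanishing locus of a regular section of an affine open vanishes. -/
theorem eq_zero_of_res_basicOpen {W : X.Opens} (hW : IsAffineOpen W) {b : Γ(X, W)}
    (hb : b ∈ regSub X W) (c : Γ(X, W))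
    (h : X.presheaf.map (homOfLE (X.basicOpen_le b)).op c = 0) : c = 0 := by
  haveI := hW.isLocalization_basicOpen b
  obtain ⟨⟨_, n, rfl⟩, hn⟩ := (IsLocalization.map_eq_zero_iff (Submonoid.powers b) Γ(X, X.basicOpen b) c).mp h
  refine TopCat.Presheaf.section_ext X.sheaf W c 0 fun y hy => ?_
  have h2 : gO y hy b ^ n * gO y hy c = 0 := by
    rw [← map_pow, ← map_mul]; exact (congrArg _ hn).trans (map_zero _)
  exact ((mul_left_mem_nonZeroDivisors_eq_zero_iff (pow_mem (hb ⟨y, hy⟩) n)).mp h2).trans (map_zero _).symm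

end Groth.Agent.MeroLib

namespace Groth.Agent.MeroLib

open Mero

variable {X : Scheme.{u}}

/-- A meromorphic function with values in the local rings is a function. -/
theorem exists_of_range {U : X.Opens} (u : Γ(kmod X, U)) (h : ∀ y : U, u.1 y ∈ (iK y.1).range) :
    ∃ c : Γ(X, U), ∀ y : U, u.1 y = iK y.1 (gO y.1 y.2 c) := by
  classical
  have key : ∀ x : U, ∃ (W : X.Opens) (_ : W ≤ U) (_ : x.1 ∈ W) (c : Γ(X, W)),
      ∀ (y : W) (hy : y.1 ∈ U), u.1 ⟨y.1, hy⟩ = iK y.1 (gO y.1 y.2 c) := fun x => by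
    obtain ⟨W, hWU, a, b, -, hx, hb, hab⟩ := exists_frac u x
    obtain ⟨r, hr⟩ := h x
    obtain ⟨V, hxV, c, rfl⟩ := TopCat.Presheaf.exists_germ_eq (C := CommRingCat) X.presheaf r
    have h1 := hab ⟨x.1, hx⟩
    rw [← hr, ← map_mul] at h1
    have hxWV : x.1 ∈ W ⊓ (V : X.Opens) := And.intro hx hxV
    have h2 : gO x.1 hxWV (X.presheaf.map (homOfLE inf_le_right).op c *
        X.presheaf.map (homOfLE inf_le_left).op b) = gO x.1 hxWV (X.presheaf.map (homOfLE inf_le_left).op a) := by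
      simp only [map_mul, gO, TopCat.Presheaf.germ_res_apply]
      exact iK_inj _ h1
    obtain ⟨O, hxO, i₁, i₂, e⟩ := X.presheaf.germ_eq x.1 _ _ _ _ h2
    refine ⟨O, (i₁.le.trans inf_le_left).trans hWU, hxO, X.presheaf.map (i₁ ≫ homOfLE inf_le_right).op c,
      fun y hy => ?_⟩
    have hyW : y.1 ∈ W := (i₁.le y.2).1
    have h3 := congrArg (gO y.1 y.2) e
    simp only [gO, TopCat.Presheaf.germ_res_apply, map_mul] at h3
    refine (isUnit_iK_of_mem (germ_mem_regStalk ⟨y.1, hyW⟩ hb)).mul_left_injective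
      ((hab ⟨y.1, hyW⟩).trans ?_)
    simp only [gO, TopCat.Presheaf.germ_res_apply]
    rw [← map_mul]
    exact congrArg _ h3.symm
  choose W hWU hxW c hc using key
  obtain ⟨s, hs, -⟩ := TopCat.Sheaf.existsUnique_gluing' X.sheaf W U (fun x => homOfLE (hWU x))
    (fun y hy => Opens.mem_iSup.mpr ⟨⟨y, hy⟩, hxW _⟩) c (fun x x' => by
      refine TopCat.Presheaf.section_ext X.sheaf (W x ⊓ W x') _ _ fun y hy => iK_inj y ?_
      have hyU : y ∈ U := hWU x hy.1
      refine ((congrArg (iK y) (TopCat.Presheaf.germ_res_apply X.presheaf _ y hy (c x))).trans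
        (hc x ⟨y, hy.1⟩ hyU).symm).trans ?_
      exact (hc x' ⟨y, hy.2⟩ hyU).trans
        (congrArg (iK y) (TopCat.Presheaf.germ_res_apply X.presheaf _ y hy (c x')).symm))
  refine ⟨s, fun y => (hc y ⟨y.1, hxW y⟩ y.2).trans (congrArg (iK y.1) ?_)⟩
  rw [← show X.presheaf.map (homOfLE (hWU y)).op s = c y from hs y]
  exact TopCat.Presheaf.germ_res_apply X.presheaf _ y.1 _ s

theorem germOf_eq {U : X.Opens} (f : (Γ(kmod X, U))ˣ) (y : U) :
    germOf f y = QuotientGroup.mk (uval f y) := rfl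

theorem uval_val {U : X.Opens} (f : (Γ(kmod X, U))ˣ) (y : U) :
    ((uval f y : (KStalk X y.1)ˣ) : KStalk X y.1) = (f : Γ(kmod X, U)).1 y := rfl

theorem uval_inv {U : X.Opens} (f : (Γ(kmod X, U))ˣ) (y : U) :
    ((f⁻¹ : (Γ(kmod X, U))ˣ) : Γ(kmod X, U)).1 y * (f : Γ(kmod X, U)).1 y = 1 := by
  rw [← kmod_mul_apply, Units.inv_mul, kmod_one_apply]

/-- The generator `f⁻¹` of `O_X(D)` where `D = div f`. -/
def gen (D : Divisor X) {U : X.Opens} (f : (Γ(kmod X, U))ˣ) (hf : ∀ y : U, D.1 y.1 = germOf f y) :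
    Γ(divMod D, U) :=
  ⟨((f⁻¹ : (Γ(kmod X, U))ˣ) : Γ(kmod X, U)).1, ((f⁻¹ : (Γ(kmod X, U))ˣ) : Γ(kmod X, U)).2,
    fun y => (divCond_iff (hf y) _).mpr ⟨1, by rw [map_one]; exact (uval_inv f y).symm⟩⟩

end Groth.Agent.MeroLib
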