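import Groth.Agent.MeroLib.Sections
import Groth.Agent.GenComp.Basic
import Groth.Agent.S12513
import Mathlib.RingTheory.Ideal.AssociatedPrime.Localization

/-!
Opens containing enough regular non-vanishing loci: extension to meromorphic functions and sections.
-/

set_option autoImplicit false
set_option backward.isDefEq.respectTransparency false

universe u

open CategoryTheory AlgebraicGeometry TopologicalSpace Opposite
open Groth.Agent.QC (res res_res app_res)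

noncomputable section

namespace Groth.Agent.MeroLib

open Mero

variable {X : Scheme.{u}}

/-- Arbitrarily small affine neighbourhoods in `U` carry regular sections with non-vanishing locus in `V`. -/
def HasDenoms (U V : X.Opens) : Prop :=
  ∀ x : X, x ∈ U → ∀ W₀ : X.Opens, x ∈ W₀ → W₀ ≤ U →
    ∃ (W : X.Opens) (b : Γ(X, W)), IsAffineOpen W ∧ x ∈ W ∧ W ≤ W₀ ∧ b ∈ regSub X W ∧ X.basicOpen b ≤ V

/-- A meromorphic function vanishing on such an open vanishes. -/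
theorem eq_zero_of_hasDenoms {U V : X.Opens} (h : HasDenoms U V) {O : X.Opens} (hO : O ≤ U) (f : Γ(kmod X, O))
    (hf : ∀ (y : X) (hy : y ∈ O), y ∈ V → f.1 ⟨y, hy⟩ = 0) (y : O) : f.1 y = 0 := by
  obtain ⟨W₁, hW₁, a, b, -, hy₁, hb, hab⟩ := exists_frac f y
  obtain ⟨W, d, hW, hyW, hWW₁, hd, hdV⟩ := h y.1 (hO y.2) W₁ hy₁ (hW₁.trans hO)
  have ha : X.presheaf.map (homOfLE hWW₁).op a = 0 := by
    refine eq_zero_of_res_basicOpen hW hd _ (TopCat.Presheaf.section_ext X.sheaf _ _ 0 fun z hz => iK_inj z ?_)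
    change iK z (gO z hz _) = iK z (gO z hz 0)
    simp only [gO, TopCat.Presheaf.germ_res_apply, map_zero]
    refine (hab ⟨z, hWW₁ (X.basicOpen_le d hz)⟩).symm.trans ?_
    rw [hf z (hW₁ (hWW₁ (X.basicOpen_le d hz))) (hdV hz), zero_mul]
  have h1 := hab ⟨y.1, hy₁⟩
  have h2 : gO y.1 hy₁ a = 0 := by
    have h3 := congrArg (gO y.1 hyW) ha
    simpa only [gO, TopCat.Presheaf.germ_res_apply, map_zero] using h3
  rw [h2, map_zero, (isUnit_iK_of_mem (germ_mem_regStalk ⟨y.1, hy₁⟩ hb)).mul_left_eq_zero] at h1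
  exact h1

/-- The non-vanishing locus of a regular section. -/
theorem hasDenoms_basicOpen {W : X.Opens} {d : Γ(X, W)} (hd : d ∈ regSub X W) : HasDenoms W (X.basicOpen d) := by
  intro x hx W₀ hxW₀ hW₀
  obtain ⟨W', hW', hxW', hle⟩ := TopologicalSpace.Opens.isBasis_iff_nbhd.mp X.isBasis_affineOpens hxW₀
  refine ⟨W', X.presheaf.map (homOfLE (hle.trans hW₀)).op d, hW', hxW', hle, regSub_res _ hd, ?_⟩
  rw [Scheme.basicOpen_res]
  exact inf_le_right

/-- A function on a non-vanishing locus is a fraction. -/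
theorem exists_num {W : X.Opens} (hW : IsAffineOpen W) (b : Γ(X, W)) (hb : b ∈ regSub X W)
    (c : Γ(X, X.basicOpen b)) :
    ∃ a b' : Γ(X, W), b' ∈ regSub X W ∧ ∀ (y : X) (hy : y ∈ X.basicOpen b),
      IsUnit (gO y (X.basicOpen_le b hy) b') ∧
      gO y hy c * gO y (X.basicOpen_le b hy) b' = gO y (X.basicOpen_le b hy) a := by
  haveI := hW.isLocalization_basicOpen b
  obtain ⟨⟨a, _, n, rfl⟩, hn⟩ := IsLocalization.surj (Submonoid.powers b) c
  refine ⟨a, b ^ n, pow_mem hb n, fun y hy => ⟨?_, ?_⟩⟩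
  · rw [map_pow]; exact ((X.mem_basicOpen b y (X.basicOpen_le b hy)).mp hy).pow n
  have h1 := congrArg (gO y hy) hn
  rw [map_mul] at h1
  simp only [RingHom.algebraMap_toAlgebra, gO] at h1
  erw [TopCat.Presheaf.germ_res_apply, TopCat.Presheaf.germ_res_apply] at h1
  exact h1

/-- A function on such an open extends to a meromorphic function. -/
theorem exists_extend {U V : X.Opens} (hVU : V ≤ U) (h : HasDenoms U V) (g : Γ(X, V)) :
    ∃ s : Γ(kmod X, U), ∀ y : V, s.1 ⟨y.1, hVU y.2⟩ = iK y.1 (gO y.1 y.2 g) := by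
  classical
  have loc : ∀ x : U, ∃ (W : X.Opens) (_ : W ≤ U) (_ : x.1 ∈ W) (t : Γ(kmod X, W)) (a b : Γ(X, W)),
      b ∈ regSub X W ∧ (∀ z : W, t.1 z * iK z.1 (gO z.1 z.2 b) = iK z.1 (gO z.1 z.2 a)) ∧
      ∀ (z : W) (hz : z.1 ∈ V), t.1 z = iK z.1 (gO z.1 hz g) := by
    intro x
    obtain ⟨W, d, hW, hxW, hWU, hd, hdV⟩ := h x.1 x.2 U x.2 le_rfl
    obtain ⟨a, b, hb, hab⟩ := exists_num hW d hd (X.presheaf.map (homOfLE hdV).op g)
    obtain ⟨t, ht⟩ := exists_section (fun z : W => (LocalizedModule.mk (gO z.1 z.2 a) (regGerm z ⟨b, hb⟩) : KStalk X z.1))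
      fun z => ⟨W, le_rfl, a, b, z.2, hb, fun w => mk_mul_iK _ _⟩
    have ht' : ∀ z : W, t.1 z * iK z.1 (gO z.1 z.2 b) = iK z.1 (gO z.1 z.2 a) := fun z => by
      rw [ht]; exact mk_mul_iK _ _
    refine ⟨W, hWU, hxW, t, a, b, hb, ht', fun z hz => ?_⟩
    refine sub_eq_zero.mp ?_
    have hzero := eq_zero_of_hasDenoms (O := W ⊓ V) (hasDenoms_basicOpen hd) inf_le_left
      ((kmod X).presheaf.map (homOfLE (inf_le_left : W ⊓ V ≤ W)).op t -
        toK X (W ⊓ V) (X.presheaf.map (homOfLE (inf_le_right : W ⊓ V ≤ V)).op g))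
    have key : ∀ w : (W ⊓ V : X.Opens),
        ((kmod X).presheaf.map (homOfLE (inf_le_left : W ⊓ V ≤ W)).op t -
          toK X (W ⊓ V) (X.presheaf.map (homOfLE (inf_le_right : W ⊓ V ≤ V)).op g)).1 w =
        t.1 ⟨w.1, w.2.1⟩ - iK w.1 (gO w.1 w.2.2 g) := fun w => by
      refine (map_sub (evalK X _ w) _ _).trans (congrArg₂ (· - ·) rfl ?_)
      refine (toK_val _ w).trans ?_
      simp only [gO, TopCat.Presheaf.germ_res_apply]
    refine (key ⟨z.1, z.2, hz⟩).symm.trans (hzero (fun y hy hyd => (key ⟨y, hy⟩).trans (sub_eq_zero.mpr ?_)) _)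
    refine (isUnit_iK_of_mem (germ_mem_regStalk (⟨y, hy.1⟩ : W) hb)).mul_left_injective ((ht' ⟨y, hy.1⟩).trans ?_)
    change iK y (gO y hy.1 a) = iK y (gO y hy.2 g) * iK y (gO y hy.1 b)
    rw [← map_mul, ← (hab y hyd).2]
    simp only [gO, TopCat.Presheaf.germ_res_apply]
  choose W hWU hxW t a b hb hab htg using loc
  have hagree : ∀ (x : U) (y : W x), (t ⟨y.1, hWU x y.2⟩).1 ⟨y.1, hxW _⟩ = (t x).1 y := by
    intro x y
    refine sub_eq_zero.mp ?_
    have := eq_zero_of_hasDenoms h ((inf_le_left : W ⟨y.1, hWU x y.2⟩ ⊓ W x ≤ _).trans (hWU _))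
      ((kmod X).presheaf.map (homOfLE (inf_le_left : W ⟨y.1, hWU x y.2⟩ ⊓ W x ≤ _)).op (t ⟨y.1, hWU x y.2⟩) -
        (kmod X).presheaf.map (homOfLE (inf_le_right : W ⟨y.1, hWU x y.2⟩ ⊓ W x ≤ _)).op (t x))
      (fun z hz hzV => (map_sub (evalK X _ ⟨z, hz⟩) _ _).trans (by
        change (t _).1 ⟨z, hz.1⟩ - (t x).1 ⟨z, hz.2⟩ = 0
        rw [htg _ ⟨z, hz.1⟩ hzV, htg x ⟨z, hz.2⟩ hzV, sub_self])) ⟨y.1, hxW _, y.2⟩
    exact (map_sub (evalK X _ ⟨y.1, _⟩) _ _).symm.trans this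
  obtain ⟨s, hs⟩ := exists_section (fun y : U => (t y).1 ⟨y.1, hxW y⟩) fun x =>
    ⟨W x, hWU x, a x, b x, hxW x, hb x, fun y => by rw [hagree x y]; exact hab x y⟩
  refine ⟨s, fun y => ?_⟩
  rw [hs]
  exact htg _ ⟨y.1, hxW _⟩ y.2

/-- A generator on such an open gives a regular meromorphic section. -/
theorem hasRegularMero_of_gen {L : X.Modules} (hL : PicF.IsInvertible L) {V : X.Opens} (h : HasDenoms ⊤ V)
    {e₀ : Γ(L, V)} (he₀ : TMul.IsGen e₀) : HasRegularMero L := by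
  classical
  have loc : ∀ x : X, ∃ (W : X.Opens) (_ : x ∈ W) (e : Γ(L, W)) (q : Γ(kmod X, W)) (a b : Γ(X, W)),
      TMul.IsGen e ∧ a ∈ regSub X W ∧ b ∈ regSub X W ∧
      (∀ y : W, q.1 y * iK y.1 (gO y.1 y.2 b) = iK y.1 (gO y.1 y.2 a)) ∧
      ∀ (y : W) (hy : y.1 ∈ V), q.1 y • mOne (gL L y.1 y.2 e) = mOne (gL L y.1 hy e₀) := by
    intro x
    obtain ⟨U₁, e, hxU₁, he⟩ := TMul.exists_isGen hL x
    obtain ⟨W, d, hW, hxW, hWU, hd, hdV⟩ := h x trivial U₁ hxU₁ le_top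
    obtain ⟨e', he'⟩ : ∃ e' : Γ(L, W), TMul.IsGen e' :=
      ⟨res L hWU e, fun O hO => by simpa only [res_res] using he O (hO.trans hWU)⟩
    obtain ⟨c, hc⟩ := (he' (W ⊓ V) inf_le_left).2 (res L inf_le_right e₀)
    obtain ⟨c', hc'⟩ := (he₀ (W ⊓ V) inf_le_right).2 (res L inf_le_left e')
    have hcoef : ∀ (y : X) (hy : y ∈ W ⊓ V), gO y hy c • gL L y hy.1 e' = gL L y hy.2 e₀ ∧
        IsUnit (gO y hy c) := by
      intro y hy
      have h1 := congrArg (gL L y hy) hc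
      have h2 := congrArg (gL L y hy) hc'
      rw [gL_smul, gL_res, gL_res] at h1 h2
      refine ⟨h1, IsUnit.of_mul_eq_one (gO y hy c') (sub_eq_zero.mp (coeff_eq_zero he₀ ⟨y, hy.2⟩ _ ?_))⟩
      rw [sub_smul, one_smul, mul_smul, h2, h1, sub_self]
    obtain ⟨a, b, hb, hab⟩ := exists_num hW d hd
      (X.presheaf.map (homOfLE (le_inf (X.basicOpen_le d) hdV)).op c)
    have hab' : ∀ (y : X) (hy : y ∈ X.basicOpen d),
        gO y (⟨X.basicOpen_le d hy, hdV hy⟩ : y ∈ W ⊓ V) c * gO y (X.basicOpen_le d hy) b = gO y (X.basicOpen_le d hy) a := by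
      intro y hy
      rw [← (hab y hy).2]
      simp only [gO, TopCat.Presheaf.germ_res_apply]
    have ha : a ∈ regSub X W := fun y => by
      refine mem_nonZeroDivisors_iff_right.2 fun r hr => ?_
      obtain ⟨O₀, hyO₀, r', rfl⟩ := TopCat.Presheaf.exists_germ_eq (C := CommRingCat) X.presheaf r
      have hy2 : y.1 ∈ W ⊓ (O₀ : X.Opens) := And.intro y.2 hyO₀
      have h0 : gO y.1 hy2 (X.presheaf.map (homOfLE inf_le_right).op r' * X.presheaf.map (homOfLE inf_le_left).op a) =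
          gO y.1 hy2 0 := by
        simp only [map_mul, map_zero, gO, TopCat.Presheaf.germ_res_apply]
        exact hr
      obtain ⟨O₁, hyO₁, i₁, i₂, e0⟩ := X.presheaf.germ_eq y.1 _ _ _ _ h0
      obtain ⟨O, hO, hyO, hOle⟩ := TopologicalSpace.Opens.isBasis_iff_nbhd.mp X.isBasis_affineOpens hyO₁
      have hOW : O ≤ W := hOle.trans (i₁.le.trans inf_le_left)
      have hz : X.presheaf.map (homOfLE (hOle.trans (i₁.le.trans inf_le_right))).op r' = 0 := by
        refine eq_zero_of_res_basicOpen hO (regSub_res (homOfLE hOW) hd) _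
          (TopCat.Presheaf.section_ext X.sheaf _ _ 0 fun z hz => ?_)
        have hzO : z ∈ O := X.basicOpen_le _ hz
        have hzd : z ∈ X.basicOpen d := by
          rw [Scheme.basicOpen_res] at hz; exact hz.2
        have hau : IsUnit (gO z (hOW hzO) a * 1) := by
          rw [mul_one, ← hab' z hzd]
          exact (hcoef z ⟨hOW hzO, hdV hzd⟩).2.mul (hab z hzd).1
        have h3 := congrArg (gO z (hOle hzO)) e0
        simp only [gO, TopCat.Presheaf.germ_res_apply, map_mul, map_zero] at h3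
        change gO z hz _ = gO z hz 0
        simp only [gO, TopCat.Presheaf.germ_res_apply, map_zero]
        rw [mul_one] at hau
        exact hau.mul_left_eq_zero.mp h3
      have h4 := congrArg (gO y.1 hyO) hz
      simpa only [gO, TopCat.Presheaf.germ_res_apply, map_zero] using h4
    obtain ⟨q, hq⟩ := exists_section (fun z : W => (LocalizedModule.mk (gO z.1 z.2 a) (regGerm z ⟨b, hb⟩) : KStalk X z.1))
      fun z => ⟨W, le_rfl, a, b, z.2, hb, fun w => mk_mul_iK _ _⟩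
    have hq' : ∀ z : W, q.1 z * iK z.1 (gO z.1 z.2 b) = iK z.1 (gO z.1 z.2 a) := fun z => by
      rw [hq]; exact mk_mul_iK _ _
    refine ⟨W, hxW, e', q, a, b, he', ha, hb, hq', fun y hy => ?_⟩
    have hz := eq_zero_of_hasDenoms (O := W ⊓ V) (hasDenoms_basicOpen hd) inf_le_left
      ((kmod X).presheaf.map (homOfLE (inf_le_left : W ⊓ V ≤ W)).op q - toK X (W ⊓ V) c) ?_ ⟨y.1, y.2, hy⟩
    · have h5 : q.1 y = iK y.1 (gO y.1 (⟨y.2, hy⟩ : y.1 ∈ W ⊓ V) c) :=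
        sub_eq_zero.mp ((map_sub (evalK X _ ⟨y.1, _⟩) _ _).symm.trans hz)
      rw [h5, iK_smul_mOne, (hcoef y.1 ⟨y.2, hy⟩).1]
    · intro z hz hzd
      refine (map_sub (evalK X _ ⟨z, hz⟩) _ _).trans (sub_eq_zero.mpr ?_)
      refine (isUnit_iK_of_mem (germ_mem_regStalk (⟨z, hz.1⟩ : W) hb)).mul_left_injective
        ((hq' ⟨z, hz.1⟩).trans ?_)
      change iK z (gO z hz.1 a) = iK z (gO z hz c) * iK z (gO z hz.1 b)
      rw [← map_mul, ← hab' z hzd]
  choose W hxW e q a b he ha hb hab hqV using loc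
  have hqu : ∀ x, IsUnit (q x) := fun x => isUnit_of_regular _ fun y =>
    ⟨W x, le_rfl, a x, b x, y.2, ha x, hb x, fun z => hab x z⟩
  have hagree : ∀ (x : X) (y : W x), (q y.1).1 ⟨y.1, hxW y.1⟩ • mOne (gL L y.1 (hxW y.1) (e y.1)) =
      (q x).1 y • mOne (gL L y.1 y.2 (e x)) := by
    intro x y
    obtain ⟨c, hc⟩ := (he x (W y.1 ⊓ W x) inf_le_right).2 (res L inf_le_left (e y.1))
    have hc' : ∀ (z : X) (hz : z ∈ W y.1 ⊓ W x), gL L z hz.1 (e y.1) = gO z hz c • gL L z hz.2 (e x) := fun z hz => by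
      have h1 := congrArg (gL L z hz) hc
      rw [gL_smul, gL_res, gL_res] at h1
      exact h1.symm
    have hz := eq_zero_of_hasDenoms (O := W y.1 ⊓ W x) h le_top
      ((kmod X).presheaf.map (homOfLE (inf_le_left : W y.1 ⊓ W x ≤ _)).op (q y.1) * toK X _ c -
        (kmod X).presheaf.map (homOfLE (inf_le_right : W y.1 ⊓ W x ≤ _)).op (q x)) ?_ ⟨y.1, hxW y.1, y.2⟩
    · have h5 : (q y.1).1 ⟨y.1, hxW y.1⟩ * iK y.1 (gO y.1 (⟨hxW y.1, y.2⟩ : y.1 ∈ W y.1 ⊓ W x) c) = (q x).1 y :=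
        sub_eq_zero.mp ((map_sub (evalK X _ ⟨y.1, _⟩) _ _).symm.trans hz)
      rw [hc' y.1 ⟨hxW y.1, y.2⟩, ← iK_smul_mOne, smul_smul, h5]
    · intro z hz hzV
      refine (map_sub (evalK X _ ⟨z, hz⟩) _ _).trans (sub_eq_zero.mpr (KStalk_coeff_inj (he x) ⟨z, hz.2⟩ _ _ ?_))
      change ((q y.1).1 ⟨z, hz.1⟩ * iK z (gO z hz c)) • _ = (q x).1 ⟨z, hz.2⟩ • _
      rw [mul_smul, iK_smul_mOne, ← hc' z hz, hqV y.1 ⟨z, hz.1⟩ hzV, hqV x ⟨z, hz.2⟩ hzV]
  let φ : ∀ y : (⊤ : X.Opens), MStalk L y.1 := fun y =>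
    (q y.1).1 ⟨y.1, hxW y.1⟩ • mOne (gL L y.1 (hxW y.1) (e y.1))
  refine ⟨⟨φ, fun x => ?_⟩, fun x p hp => ?_⟩
  · refine ⟨W x.1, hxW x.1, homOfLE le_top, a x.1 • e x.1, ⟨b x.1, hb x.1⟩, fun y => ?_⟩
    change φ ⟨y.1, trivial⟩ = _
    rw [show φ ⟨y.1, trivial⟩ = _ from hagree x.1 y, eq_mk_of_mul_iK (s := regGerm y ⟨b x.1, hb x.1⟩) (hab x.1 y),
      mk_smul_mOne]
    exact mk_congr (gL_smul _ _ _ _).symm rfl
  · refine ((hqu x).map (evalK X _ ⟨x, hxW x⟩)).mul_left_eq_zero.mp (KStalk_coeff_eq_zero (he x) ⟨x, hxW x⟩ _ ?_)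
    rw [mul_smul]
    exact hp

end Groth.Agent.MeroLib
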