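import Groth.Agent.MeroLib.Sections
import Groth.Agent.CurveRR.Cartier
import Groth.Agent.BlowUpLib.Basic

/-!
# The canonical section of the module of an effective divisor
-/

set_option autoImplicit false
set_option linter.style.haveILetI false
set_option linter.unusedSectionVars false
set_option backward.isDefEq.respectTransparency false
set_option backward.isDefEq.respectTransparency.types false

universe u

open CategoryTheory CategoryTheory.Limits AlgebraicGeometry TopologicalSpace Opposite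
open Mero Groth.Agent.MeroLib
open Groth.Agent.QC (res app_res)
open Groth.Agent.WeakAssLib (mgerm mgerm_smul)

noncomputable section

namespace Groth.Agent.MeroLib

variable {X : Scheme.{u}}

/-- Regular germs at a maximal point are units. -/
theorem isUnit_of_maximalPt {x : X} (hx : ∀ y : X, y ⤳ x → y = x) {r : X.presheaf.stalk x}
    (hr : r ∈ nonZeroDivisors (X.presheaf.stalk x)) : IsUnit r := by
  obtain ⟨U, hU, hxU, -⟩ := TopologicalSpace.Opens.isBasis_iff_nbhd.mp X.isBasis_affineOpens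
    (show x ∈ (⊤ : X.Opens) from trivial)
  letI := TopCat.Presheaf.algebra_section_stalk X.presheaf (⟨x, hxU⟩ : U)
  haveI : IsLocalization.AtPrime (X.presheaf.stalk x) (hU.primeIdealOf ⟨x, hxU⟩).asIdeal :=
    hU.isLocalization_stalk ⟨x, hxU⟩
  have hq : hU.fromSpec.base (hU.primeIdealOf ⟨x, hxU⟩) = x := hU.fromSpec_primeIdealOf ⟨x, hxU⟩
  have hmin := BlowUpLib.minimal_of_maximalPt ⟨U, hU⟩ (q := hU.primeIdealOf ⟨x, hxU⟩)
    (fun y hy => by
      refine (hx y ?_).trans hq.symm
      exact hy.trans (specializes_of_eq hq))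
  have hm : IsLocalRing.maximalIdeal (X.presheaf.stalk x) ∈ minimalPrimes (X.presheaf.stalk x) := by
    refine ⟨⟨inferInstance, bot_le⟩, fun Q hQ hle => ?_⟩
    haveI := hQ.1
    have h1 : Q.under Γ(X, U) ≤ (hU.primeIdealOf ⟨x, hxU⟩).asIdeal :=
      (Ideal.comap_mono hle).trans (IsLocalization.AtPrime.under_maximalIdeal (X.presheaf.stalk x) _).le
    have h2 := le_antisymm h1 (hmin.2 ⟨inferInstance, bot_le⟩ h1)
    rw [← IsLocalization.map_under (hU.primeIdealOf ⟨x, hxU⟩).asIdeal.primeCompl (X.presheaf.stalk x) Q, h2,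
      IsLocalization.AtPrime.map_eq_maximalIdeal]
  by_contra hnu
  exact (Ideal.disjoint_nonZeroDivisors_of_mem_minimalPrimes hm).le_bot ⟨(IsLocalRing.mem_maximalIdeal r).2 hnu, hr⟩

/-- An effective divisor is trivial at maximal points. -/
theorem eq_one_of_maximalPt {D : Divisor X} (hD : IsEffective D) {x : X} (hx : ∀ y : X, y ⤳ x → y = x) :
    D.1 x = 1 := by
  obtain ⟨a, ha⟩ := hD x
  obtain ⟨u, hu⟩ := isUnit_of_maximalPt hx (regStalk_le_nonZeroDivisors x a.2)
  rw [ha]
  refine Eq.trans ?_ (QuotientGroup.mk_one _)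
  refine ((mk_eq_mk_iff _ _).2 ⟨(u⁻¹ : (X.presheaf.stalk x)ˣ).1, u⁻¹.isUnit, ?_⟩)
  show (1 : KStalk X x) = (IsLocalization.map_units (KStalk X x) a).unit * iK x _
  rw [IsUnit.unit_spec]
  show (1 : KStalk X x) = iK x a * iK x _
  rw [← map_mul, ← hu, Units.mul_inv, map_one]

/-- The section `1` of `O(D)` for effective `D`. -/
def one (D : Divisor X) (hD : IsEffective D) : Γ(divMod D, ⊤) :=
  ⟨(1 : Γ(kmod X, ⊤)).1, (1 : Γ(kmod X, ⊤)).2, fun y => by
    obtain ⟨a, ha⟩ := hD y.1
    refine (divCond_iff ha _).2 ⟨a, ?_⟩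
    rw [IsUnit.unit_spec, kmod_one_apply, one_mul]⟩

theorem coker_one_support {D : Divisor X} (hD : IsEffective D) {y : X} (hy : D.1 y = 1) :
    y ∉ CohB1.support (cokernel (TMul.homOf (one D hD))) := by
  obtain ⟨U, f, -, hyU, hf⟩ := exists_local D y
  have hg := isGen_gen D f hf
  obtain ⟨c, hc⟩ := (hg U le_rfl).2 (res (divMod D) (le_top : U ≤ ⊤) (one D hD))
  change c • res (divMod D) le_rfl (gen D f hf) = _ at hc
  have hc' : c • gen D f hf = res (divMod D) (le_top : U ≤ ⊤) (one D hD) := by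
    rw [← hc, Groth.Agent.QC.res_self]
  have hcy : IsUnit (gO y hyU c) := by
    have h1 : (uval f ⟨y, hyU⟩ : KStalk X y) = iK y (gO y hyU c) := by
      have h := congrArg (fun w : Γ(divMod D, U) => w.1 ⟨y, hyU⟩) hc'
      change gO y hyU c • ((f⁻¹ : (Γ(kmod X, U))ˣ) : Γ(kmod X, U)).1 ⟨y, hyU⟩ = (1 : Γ(kmod X, ⊤)).1 ⟨y, trivial⟩ at h
      rw [kmod_one_apply, Algebra.smul_def] at h
      calc (uval f ⟨y, hyU⟩ : KStalk X y) = 1 * uval f ⟨y, hyU⟩ := (one_mul _).symm
        _ = _ := by
          rw [← h, uval_val, mul_assoc, uval_inv, mul_one]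
    have h2 := (hf ⟨y, hyU⟩).symm.trans hy
    rw [germOf_eq] at h2
    obtain ⟨e, he, h3⟩ := (mk_eq_mk_iff _ 1).1 (h2.trans (QuotientGroup.mk_one _).symm)
    rw [Units.val_one, h1, ← map_mul, ← map_one (iK y)] at h3
    exact IsUnit.of_mul_eq_one e (iK_inj y h3).symm
  refine CurveRR.notMem_support_coker _ y fun v => ?_
  obtain ⟨r, hr⟩ := ZeroSch.exists_smul_germ hg hyU v
  obtain ⟨u, hu⟩ := hcy
  refine ⟨(r * (u⁻¹ : (X.presheaf.stalk y)ˣ)) • mgerm (Coh.structureModule X) hyU (show Γ(X, U) from 1), ?_⟩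
  rw [WeakAssLib.stalkHom_smul, WeakAssLib.stalkHom_germ, TMul.app_eq_smul, one_smul, TMul.val_homOf, ← hc', mgerm_smul, hr,
    smul_smul]
  exact congrArg (· • _) (by
    show r * _ * X.presheaf.germ U y hyU c = r
    rw [show X.presheaf.germ U y hyU c = gO y hyU c from rfl, ← hu, mul_assoc, Units.inv_mul, mul_one])

theorem mono_one {D : Divisor X} (hD : IsEffective D) : Mono (TMul.homOf (one D hD)) := by
  refine Groth.Agent.QC.mono_of_injective_basis _ (B := fun U : X.Opens => U) (Opens.isBasis_iff_nbhd.2 fun {U x} hx => ⟨U, ⟨U, rfl⟩, hx, le_rfl⟩) fun U a b hab => ?_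

  refine TopCat.Presheaf.section_ext X.sheaf U (show Γ(X, U) from a) b fun y hy => iK_inj y ?_
  have hab' : (show Γ(X, U) from a) • TMul.val (TMul.homOf (one D hD)) U =
      (show Γ(X, U) from b) • TMul.val (TMul.homOf (one D hD)) U := by
    rw [← TMul.app_eq_smul, ← TMul.app_eq_smul]
    exact hab
  rw [TMul.val_homOf] at hab'
  have h := congrArg (fun w : Γ(divMod D, U) => w.1 ⟨y, hy⟩) hab'
  change gO y hy (show Γ(X, U) from a) • (1 : Γ(kmod X, ⊤)).1 ⟨y, trivial⟩ =
    gO y hy (show Γ(X, U) from b) • (1 : Γ(kmod X, ⊤)).1 ⟨y, trivial⟩ at h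
  rw [kmod_one_apply, Algebra.smul_def, Algebra.smul_def, mul_one, mul_one] at h
  exact h

/-- An effective divisor on a scheme of dimension at most one is supported in dimension zero. -/
theorem exists_one_seq [IsNoetherian X] (hdim : topologicalKrullDim X ≤ 1) {D : Divisor X} (hD : IsEffective D)
    (hM : Coh.IsCoh (divMod D)) :
    IsClosed (CohB1.support (cokernel (TMul.homOf (one D hD)))) ∧
      topologicalKrullDim (CohB1.support (cokernel (TMul.homOf (one D hD)))) ≤ 0 := by
  have hC := Groth.Agent.QC.isCoh_cokernel (RefStalk.isCoh_structureModule (X := X)).1 hM (TMul.homOf (one D hD))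
  have hZ := Groth.Agent.QC.isClosed_support hC.2
  refine ⟨hZ, ?_⟩
  set Z := CohB1.support (cokernel (TMul.homOf (one D hD)))
  haveI : QuasiSober Z := hZ.isClosedEmbedding_subtypeVal.quasiSober
  refine le_of_le_of_eq ?_ (Nat.cast_zero (R := WithBot ℕ∞))
  refine Groth.Agent.Unibranch.topologicalKrullDim_le_natCast fun l c hc => ?_
  obtain ⟨η, hη, hmax⟩ := CartierDim.exists_maximal_generization (c 0).1
  have hout : η ∉ Z := coker_one_support hD (eq_one_of_maximalPt hD fun y hy => (hy.antisymm (hmax y hy)).eq)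
  have h1 := Groth.Agent.Unibranch.natCast_le_topologicalKrullDim
    (Fin.cons η fun i => (c i).1) fun i => by
      refine Fin.cases ?_ (fun j => ?_) i
      · refine ⟨hη, fun h => hout ?_⟩
        simp only [Fin.castSucc_zero, Fin.cons_zero, Fin.cons_succ] at h
        exact h ▸ (c 0).2
      · simp only [← Fin.succ_castSucc, Fin.cons_succ]
        exact ⟨(subtype_specializes_iff _ _).mp (hc j).1, fun h => (hc j).2 (Subtype.ext h)⟩
  have h2 := h1.trans hdim
  exact Nat.succ_le_succ_iff.mp (CartierDim.natCast_le_withBot.mp (h2.trans_eq Nat.cast_one.symm))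

end Groth.Agent.MeroLib
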