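import Groth.Agent.MeroLib.Sections

/-!
The divisor of a regular meromorphic section, with its characterising properties.
-/

set_option autoImplicit false
set_option backward.isDefEq.respectTransparency false

universe u

open CategoryTheory AlgebraicGeometry TopologicalSpace Opposite
open Groth.Agent.QC (res res_res app_res)

noncomputable section

namespace Groth.Agent.MeroLib

open Mero

variable {X : Scheme.{u}} {L : X.Modules}

/-- The divisor of a regular meromorphic section, and `L ≅ O(D)`. -/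
theorem exists_divisor_of_mero (hL : PicF.IsInvertible L) (s : Γ(merMod L, ⊤)) (hs : IsRegularMero L s) :
    ∃ (D : Divisor X) (i : L ≅ divMod D),
      (∀ (U : X.Opens) (m : Γ(L, U)) (y : U),
        mOne (gL L y.1 y.2 m) = (i.hom.app U m).1 y • s.1 ⟨y.1, Opens.mem_top y.1⟩) ∧
      ∀ (U : X.Opens) (e : Γ(L, U)), TMul.IsGen e → ∀ (y : U) (k : (KStalk X y.1)ˣ),
        s.1 ⟨y.1, Opens.mem_top y.1⟩ = (k : KStalk X y.1) • mOne (gL L y.1 y.2 e) → D.1 y.1 = QuotientGroup.mk k := by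
  -- local data
  have loc : ∀ x : X, ∃ (W : X.Opens) (_ : x ∈ W) (e : Γ(L, W)) (g : (Γ(kmod X, W))ˣ), TMul.IsGen e ∧
      ∀ y : W, s.1 ⟨y.1, trivial⟩ = (g : Γ(kmod X, W)).1 y • mOne (gL L y.1 y.2 e) := fun x => by
    obtain ⟨U, e, hxU, he⟩ := TMul.exists_isGen hL x
    obtain ⟨V, hxV, ι, m, b, hmb⟩ := s.2 ⟨x, trivial⟩
    obtain ⟨c, hc⟩ := (he (V ⊓ U) inf_le_right).2 (res L inf_le_left m)
    let b' : Γ(X, V ⊓ U) := X.presheaf.map (homOfLE inf_le_left).op b.1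
    have hb' : b' ∈ regSub X (V ⊓ U) := regSub_res _ b.2
    have hs' : ∀ y : (V ⊓ U : X.Opens), s.1 ⟨y.1, trivial⟩ =
        (LocalizedModule.mk (gO y.1 y.2 c) (regGerm y ⟨b', hb'⟩) : KStalk X y.1) • mOne (gL L y.1 y.2.2 e) := fun y => by
      refine (hmb ⟨y.1, y.2.1⟩).trans ?_
      rw [mk_smul_mOne]
      refine mk_congr ?_ (TopCat.Presheaf.germ_res_apply X.presheaf _ y.1 y.2 b.1).symm
      have h1 := congrArg (gL L y.1 y.2) hc
      rw [gL_smul, gL_res, gL_res] at h1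
      exact h1.symm
    have hc' : c ∈ regSub X (V ⊓ U) := fun y => by
      refine mem_nonZeroDivisors_iff_right.2 fun d hd => iK_inj y.1 ?_
      rw [map_zero]
      refine hs y.1 _ ?_
      rw [show s.1 ⟨y.1, Opens.mem_top y.1⟩ = _ from hs' y, smul_smul]
      change (Localization.mk d 1 * Localization.mk (gO y.1 y.2 c) _ : KStalk X y.1) • _ = 0
      rw [Localization.mk_mul, show d * gO y.1 y.2 c = 0 from hd, Localization.mk_zero, zero_smul]
    obtain ⟨g, hg⟩ := exists_section (U := V ⊓ U)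
      (fun y => (LocalizedModule.mk (gO y.1 y.2 c) (regGerm y ⟨b', hb'⟩) : KStalk X y.1))
      fun y => ⟨V ⊓ U, le_rfl, c, b', y.2, hb', fun z => mk_mul_iK _ _⟩
    have hu : IsUnit g := isUnit_of_regular g fun y => ⟨V ⊓ U, le_rfl, c, b', y.2, hc', hb', fun z => by
      rw [hg]; exact mk_mul_iK _ _⟩
    refine ⟨V ⊓ U, ⟨hxV, hxU⟩, res L inf_le_right e, hu.unit, fun W hW => by
      simpa only [res_res] using he W (hW.trans inf_le_right), fun y => ?_⟩
    rw [hs' y, IsUnit.unit_spec, hg, gL_res]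
  choose W hxW e g he hg using loc
  have hindep : ∀ (x : X) (y : W x), (germOf (g y.1) ⟨y.1, hxW y.1⟩ : Germ X y.1) = germOf (g x) y := by
    intro x y
    obtain ⟨c, hc⟩ := exists_coeff (he y.1) ⟨y.1, hxW y.1⟩ (gL L y.1 y.2 (e x))
    obtain ⟨c', hc'⟩ := exists_coeff (he x) y (gL L y.1 (hxW y.1) (e y.1))
    have hcc : c * c' = 1 := by
      refine sub_eq_zero.mp (coeff_eq_zero (he x) y _ ?_)
      rw [sub_smul, one_smul, mul_smul, ← hc', ← hc, sub_self]
    rw [germOf_eq, germOf_eq, mk_eq_mk_iff]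
    refine ⟨c', IsUnit.of_mul_eq_one c (by rw [mul_comm, hcc]), KStalk_coeff_inj (he x) y _ _ ?_⟩
    rw [uval_val, uval_val, ← hg x y, mul_smul, iK_smul_mOne, ← hc']
    exact hg y.1 ⟨y.1, hxW y.1⟩
  let D : Divisor X := ⟨fun x => germOf (g x) ⟨x, hxW x⟩, fun x => ⟨W x, hxW x, g x, fun y => hindep x y⟩⟩
  have hD : ∀ (x : X) (y : W x), D.1 y.1 = germOf (g x) y := fun x y => hindep x y
  have hq : ∀ (y : X) (t : L.presheaf.stalk y), ∃ q : KStalk X y, mOne t = q • s.1 ⟨y, Opens.mem_top y⟩ ∧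
      DivCond D y q := by
    intro y t
    obtain ⟨c, rfl⟩ := exists_coeff (he y) ⟨y, hxW y⟩ t
    refine ⟨iK y c * ((g y)⁻¹ : (Γ(kmod X, W y))ˣ).1.1 ⟨y, hxW y⟩, ?_,
      (divCond_iff (hD y ⟨y, hxW y⟩) _).mpr ⟨c, ?_⟩⟩
    · rw [hg y ⟨y, hxW y⟩, smul_smul, mul_assoc, uval_inv, mul_one, iK_smul_mOne]
    · rw [uval_val, mul_assoc, uval_inv, mul_one]
  choose q hq1 hq2 using hq
  have quniq : ∀ (y : X) (t : L.presheaf.stalk y) (p : KStalk X y), mOne t = p • s.1 ⟨y, Opens.mem_top y⟩ → q y t = p :=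
    fun y t p hp => sub_eq_zero.mp (hs y _ (by rw [sub_smul, ← hq1, ← hp, sub_self]))
  have qval : ∀ (x : X) (V : X.Opens) (hV : V ≤ W x) (c : Γ(X, V)) (y : V),
      q y.1 (gL L y.1 y.2 (c • res L hV (e x))) =
        iK y.1 (gO y.1 y.2 c) * ((g x)⁻¹ : (Γ(kmod X, W x))ˣ).1.1 ⟨y.1, hV y.2⟩ := fun x V hV c y => by
    refine quniq _ _ _ ?_
    rw [show s.1 ⟨y.1, Opens.mem_top y.1⟩ = _ from hg x ⟨y.1, hV y.2⟩, smul_smul, mul_assoc, uval_inv, mul_one, iK_smul_mOne,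
      gL_smul, gL_res]
  have qadd : ∀ (y : X) (t t' : L.presheaf.stalk y), q y (t + t') = q y t + q y t' := fun y t t' =>
    quniq _ _ _ (by rw [add_smul, ← hq1, ← hq1, LocalizedModule.mk_add_mk, one_smul, one_smul, mul_one])
  have qsmul : ∀ (y : X) (r : X.presheaf.stalk y) (t : L.presheaf.stalk y), q y (r • t) = r • q y t := fun y r t =>
    quniq _ _ _ (by rw [Algebra.smul_def, mul_smul, ← hq1]; exact (iK_smul_mOne r t).symm)
  let app : ∀ V : X.Opens, Γ(L, V) → Γ(divMod D, V) := fun V m =>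
    ⟨fun y => q y.1 (gL L y.1 y.2 m), fun z => by
      obtain ⟨c, hc⟩ := (he z.1 (V ⊓ W z.1) inf_le_right).2 (res L inf_le_left m)
      obtain ⟨T, hzT, ι, a, b, hab⟩ := ((kmod X).presheaf.map (homOfLE (inf_le_right : V ⊓ W z.1 ≤ W z.1)).op
        (((g z.1)⁻¹ : (Γ(kmod X, W z.1))ˣ) : Γ(kmod X, W z.1))).2 ⟨z.1, z.2, hxW z.1⟩
      refine ⟨T, hzT, homOfLE (ι.le.trans inf_le_left), X.presheaf.map ι.op c * a, b, fun y => ?_⟩
      change q y.1 (gL L y.1 (ι.le y.2).1 m) = _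
      have h0 := congrArg (gL L y.1 (ι.le y.2)) hc
      rw [gL_res] at h0
      rw [← h0, qval z.1 _ inf_le_right c ⟨y.1, ι.le y.2⟩, show ((g z.1)⁻¹ : (Γ(kmod X, W z.1))ˣ).1.1 ⟨y.1, _⟩ = _ from hab y]
      change Localization.mk (gO y.1 _ c) 1 * Localization.mk _ _ = (Localization.mk _ _ : KStalk X y.1)
      rw [Localization.mk_mul, one_mul, map_mul]
      congr 1
      exact congrArg (· * _) (TopCat.Presheaf.germ_res_apply X.presheaf ι y.1 y.2 c).symm,
      fun y => hq2 y.1 _⟩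
  let φ : L ⟶ divMod D :=
    ⟨PresheafOfModules.homMk (M₁ := L.val) (M₂ := (divMod D).val)
      { app := fun V => AddCommGrpCat.ofHom (AddMonoidHom.mk' (app V.unop) fun m m' =>
          Subtype.ext (funext fun y => (congrArg (q y.1) (map_add (gL L y.1 y.2) m m')).trans (qadd _ _ _)))
        naturality := fun V V' i => by
          ext m
          exact Subtype.ext (funext fun y => congrArg (q y.1) (TopCat.Presheaf.germ_res_apply' L.presheaf i y.1 y.2 m)) }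
      fun V r m => Subtype.ext (funext fun y => (congrArg (q y.1) (gL_smul r m y.1 y.2)).trans (qsmul _ _ _))⟩
  haveI : IsIso φ := RelTilde.isIso_of_bijective_near φ fun x => by
    refine ⟨W x, hxW x, fun V hV => ?_⟩
    have h1 := he x V hV
    have h2 := isGen_gen D (g x) (hD x) V hV
    refine (Function.Bijective.of_comp_iff _ h1).mp ?_
    refine Eq.mpr (congrArg _ (funext fun c => Subtype.ext (funext fun y => ?_))) h2
    change q y.1 (gL L y.1 y.2 (c • res L hV (e x))) = gO y.1 y.2 c • ((g x)⁻¹ : (Γ(kmod X, W x))ˣ).1.1 ⟨y.1, hV y.2⟩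
    rw [qval x V hV c y, Algebra.smul_def]
  refine ⟨D, asIso φ, fun U m y => hq1 y.1 (gL L y.1 y.2 m), fun U e' he' y k hk => ?_⟩
  rw [hD y.1 ⟨y.1, hxW y.1⟩, germOf_eq, mk_eq_mk_iff]
  obtain ⟨c, hc⟩ := exists_coeff he' y (gL L y.1 (hxW y.1) (e y.1))
  obtain ⟨c', hc'⟩ := exists_coeff (he y.1) ⟨y.1, hxW y.1⟩ (gL L y.1 y.2 e')
  have hcc : c * c' = 1 := by
    refine sub_eq_zero.mp (coeff_eq_zero he' y _ ?_)
    rw [sub_smul, one_smul, mul_comm, mul_smul, ← hc, ← hc', sub_self]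
  refine ⟨c, IsUnit.of_mul_eq_one c' hcc, KStalk_coeff_inj he' y _ _ ?_⟩
  rw [← hk, hg y.1 ⟨y.1, hxW y.1⟩, hc, ← iK_smul_mOne, smul_smul]
  rfl

end Groth.Agent.MeroLib
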