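import Groth.Agent.MeroLib.RegStalk
import Groth.Agent.QGorD.Basic

/-!
Effectivity of a divisor is detected at the points of depth one.
-/

set_option autoImplicit false
set_option backward.isDefEq.respectTransparency false

universe u

open CategoryTheory AlgebraicGeometry TopologicalSpace Opposite

noncomputable section

namespace Groth.Agent.MeroLib

open Mero

variable {X : Scheme.{u}}

/-- Effectivity at a point in terms of numerator and denominator. -/
theorem isEffectiveAt_iff_dvd [IsLocallyNoetherian X] (D : Divisor X) {x : X} {g : (KStalk X x)ˣ}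
    (hg : D.1 x = QuotientGroup.mk g) {a b : X.presheaf.stalk x} (hb : b ∈ regStalk X x)
    (hab : (g : KStalk X x) * iK x b = iK x a) : IsEffectiveAt D x ↔ b ∣ a := by
  constructor
  · rintro ⟨s, hs⟩
    obtain ⟨c, -, e⟩ := (mk_eq_mk_iff _ _).mp (hs.symm.trans hg)
    rw [IsUnit.unit_spec] at e
    refine ⟨s * c, iK_inj x ?_⟩
    rw [← hab, e, map_mul, map_mul]
    change iK x s * iK x c * iK x b = iK x b * (iK x s * iK x c)
    ring
  · rintro ⟨r, hr⟩
    have hbu := isUnit_iK_of_mem hb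
    have hgr : (g : KStalk X x) = iK x r := by
      refine hbu.mul_left_injective (hab.trans ?_)
      change iK x a = iK x r * iK x b
      rw [hr, map_mul, mul_comm]
    have hrn : r ∈ nonZeroDivisors (X.presheaf.stalk x) := by
      refine mem_nonZeroDivisors_iff_right.2 fun c hc => iK_inj x ?_
      have h1 : iK x c * (g : KStalk X x) = 0 := by rw [hgr, ← map_mul, hc, map_zero]
      rw [Units.mul_left_eq_zero] at h1
      rw [h1, map_zero]
    refine ⟨⟨r, mem_regStalk_of_nonZeroDivisor hrn⟩, hg.trans (congrArg _ (Units.ext ?_))⟩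
    rw [IsUnit.unit_spec]
    exact hgr

theorem dvd_of_depth_one [IsLocallyNoetherian X] (D : Divisor X)
    (h : ∀ z : X, LocCoh.depth (X.presheaf.stalk z) (X.presheaf.stalk z) = 1 → IsEffectiveAt D z)
    (x : X) : IsEffectiveAt D x := by
  classical
  obtain ⟨U, f, -, hxU, hf⟩ := exists_local D x
  obtain ⟨W, hWU, a, b, hW, hxW, hb, hab⟩ := exists_frac (f : Γ(kmod X, U)) ⟨x, hxU⟩
  have heff : ∀ z : W, IsEffectiveAt D z.1 ↔ gO z.1 z.2 b ∣ gO z.1 z.2 a := fun z =>
    isEffectiveAt_iff_dvd D (hf ⟨z.1, hWU z.2⟩) (germ_mem_regStalk z hb) (hab z)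
  rw [heff ⟨x, hxW⟩]
  by_contra hnd
  let R := X.presheaf.stalk x
  let I : Ideal R := Ideal.span {gO x hxW b}
  have hne : (Ideal.Quotient.mk I (gO x hxW a)) ≠ 0 := fun h0 =>
    hnd (Ideal.mem_span_singleton.mp (Ideal.Quotient.eq_zero_iff_mem.mp h0))
  obtain ⟨p, hass, hle⟩ := exists_le_isAssociatedPrime_of_isNoetherianRing (X.presheaf.stalk x : Type u)
    (Ideal.Quotient.mk I (gO x hxW a)) hne
  obtain ⟨hp, c', hc'⟩ := isAssociatedPrime_iff.mp hass
  obtain ⟨c, rfl⟩ := Ideal.Quotient.mk_surjective c'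
  have hmemp : ∀ r : X.presheaf.stalk x, r ∈ p ↔ gO x hxW b ∣ r * c := fun r => by
    rw [hc', Submodule.mem_colon_singleton, Submodule.mem_bot, Algebra.smul_def, Ideal.Quotient.algebraMap_eq,
      ← map_mul, Ideal.Quotient.eq_zero_iff_mem, Ideal.mem_span_singleton]
  have hJ : ∀ r : X.presheaf.stalk x, gO x hxW b ∣ r * gO x hxW a → r ∈ p := fun r hr => hle (by
    rw [Submodule.mem_colon_singleton, Submodule.mem_bot, Algebra.smul_def, Ideal.Quotient.algebraMap_eq,
      ← map_mul, Ideal.Quotient.eq_zero_iff_mem, Ideal.mem_span_singleton]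
    exact hr)
  letI := TopCat.Presheaf.algebra_section_stalk X.presheaf ⟨x, hxW⟩
  haveI := hW.isLocalization_stalk ⟨x, hxW⟩
  let q : Ideal Γ(X, W) := p.comap (algebraMap Γ(X, W) (X.presheaf.stalk x : Type u))
  haveI : q.IsPrime := Ideal.IsPrime.comap _
  obtain ⟨z, hz⟩ : ∃ z : W, hW.primeIdealOf z = ⟨q, inferInstance⟩ := by
    refine ⟨⟨hW.fromSpec ⟨q, inferInstance⟩, ?_⟩, ?_⟩
    · rw [← SetLike.mem_coe, ← hW.range_fromSpec]; exact Set.mem_range_self _
    · exact hW.fromSpec.isOpenEmbedding.injective (hW.fromSpec_primeIdealOf _)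
  letI := TopCat.Presheaf.algebra_section_stalk X.presheaf z
  haveI hloc : IsLocalization.AtPrime (X.presheaf.stalk z.1 : Type u) q := by
    have h3 := hW.isLocalization_stalk z
    rw [hz] at h3
    exact h3
  have pull : ∀ (u v : Γ(X, W)), gO z.1 z.2 v ∣ gO z.1 z.2 u →
      ∃ s : Γ(X, W), s ∉ q ∧ gO x hxW v ∣ gO x hxW s * gO x hxW u := by
    rintro u v ⟨w, huv⟩
    obtain ⟨⟨r, s⟩, hw⟩ := IsLocalization.surj q.primeCompl w
    have h4 : algebraMap Γ(X, W) (X.presheaf.stalk z.1 : Type u) (u * s.1) =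
        algebraMap Γ(X, W) (X.presheaf.stalk z.1 : Type u) (v * r) := by
      rw [map_mul, map_mul, ← hw, ← mul_assoc]
      exact congrArg (· * _) huv
    obtain ⟨t, ht⟩ := IsLocalization.exists_of_eq (M := q.primeCompl) h4
    refine ⟨t.1 * s.1, fun hc => (q.primeCompl.mul_mem t.2 s.2) hc, ⟨gO x hxW (t.1 * r), ?_⟩⟩
    rw [← map_mul, ← map_mul]
    exact congrArg _ (by linear_combination ht)
  obtain ⟨⟨c₀, t₀⟩, hc₀⟩ := IsLocalization.surj (hW.primeIdealOf ⟨x, hxW⟩).asIdeal.primeCompl c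
  have ht₀ : IsUnit (gO x hxW t₀.1) := IsLocalization.map_units (X.presheaf.stalk x : Type u) t₀
  have hmemp' : ∀ r : X.presheaf.stalk x, r ∈ p ↔ gO x hxW b ∣ r * gO x hxW c₀ := fun r => by
    rw [hmemp, ← show c * gO x hxW t₀.1 = gO x hxW c₀ from hc₀, ← mul_assoc, ht₀.dvd_mul_right]
  have hbq : b ∈ q := (hmemp _).mpr ⟨c, rfl⟩
  have hbz : gO z.1 z.2 b ∈ IsLocalRing.maximalIdeal _ := by
    intro hu
    exact ((IsLocalization.AtPrime.isUnit_to_map_iff (X.presheaf.stalk z.1 : Type u) q b).mp hu) hbq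
  have hbn : IsSMulRegular (X.presheaf.stalk z.1) (gO z.1 z.2 b) :=
    fun u v huv => mul_cancel_left_mem_nonZeroDivisors (hb z) |>.mp huv
  have hdepth : LocCoh.depth (X.presheaf.stalk z.1) (X.presheaf.stalk z.1) = 1 := by
    refine le_antisymm (le_of_not_gt fun h2 => ?_) (Groth.Agent.QGorD.one_le_of_regular hbz hbn)
    obtain ⟨y, hy, hyreg⟩ := Groth.Agent.QGorD.exists_regMod_of_two_le (M := (X.presheaf.stalk z.1 : Type u))
      (Order.add_one_le_of_lt h2) hbz hbn
    obtain ⟨⟨r, s⟩, hrs⟩ := IsLocalization.surj q.primeCompl y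
    have hrq : r ∈ q := by
      by_contra hr
      have h5 : IsUnit (y * algebraMap Γ(X, W) (X.presheaf.stalk z.1 : Type u) s.1) := by
        rw [hrs]; exact IsLocalization.map_units (X.presheaf.stalk z.1 : Type u) (⟨r, hr⟩ : q.primeCompl)
      exact hy (isUnit_of_mul_isUnit_left h5)
    obtain ⟨d, hd⟩ := (hmemp' _).mp (show gO x hxW r ∈ p from hrq)
    obtain ⟨⟨d', t⟩, hdt⟩ := IsLocalization.surj (hW.primeIdealOf ⟨x, hxW⟩).asIdeal.primeCompl d
    have e1 : algebraMap Γ(X, W) (X.presheaf.stalk x : Type u) (r * c₀ * t.1) =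
        algebraMap Γ(X, W) (X.presheaf.stalk x : Type u) (b * d') := by
      rw [map_mul, map_mul, map_mul, ← hdt]
      calc _ = gO x hxW b * d * algebraMap Γ(X, W) (X.presheaf.stalk x : Type u) t.1 := by rw [← hd]; rfl
        _ = _ := by rw [mul_assoc]; rfl
    obtain ⟨v, hv⟩ := IsLocalization.exists_of_eq (M := (hW.primeIdealOf ⟨x, hxW⟩).asIdeal.primeCompl) e1
    have hnotq : ∀ w ∈ (hW.primeIdealOf ⟨x, hxW⟩).asIdeal.primeCompl, IsUnit (gO z.1 z.2 w) := fun w hw =>
      (IsLocalization.AtPrime.isUnit_to_map_iff (X.presheaf.stalk z.1 : Type u) q w).mpr fun hwq =>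
        hp.ne_top (Ideal.eq_top_of_isUnit_mem _ hwq (IsLocalization.map_units (X.presheaf.stalk x : Type u) ⟨w, hw⟩))
    have e2 := congrArg (gO z.1 z.2) hv
    simp only [map_mul] at e2
    have h6 : gO z.1 z.2 b ∣ gO z.1 z.2 r * gO z.1 z.2 c₀ := by
      refine (((hnotq _ v.2).dvd_mul_left).mp ?_)
      refine ((hnotq _ t.2).dvd_mul_right).mp ⟨gO z.1 z.2 v.1 * gO z.1 z.2 d', ?_⟩
      linear_combination e2
    rw [show gO z.1 z.2 r = y * gO z.1 z.2 s.1 from hrs.symm, mul_comm y, mul_assoc,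
      (show IsUnit (gO z.1 z.2 s.1) from IsLocalization.map_units (X.presheaf.stalk z.1 : Type u) s).dvd_mul_left] at h6
    obtain ⟨n, hn⟩ := h6
    obtain ⟨n', hn'⟩ := hyreg (gO z.1 z.2 c₀) n hn
    obtain ⟨w, hw, hwd⟩ := pull c₀ b ⟨n', hn'⟩
    exact hw ((hmemp' _).mpr hwd)
  obtain ⟨s, hs, hsd⟩ := pull a b ((heff z).mp (h z.1 hdepth))
  exact hs (hJ _ hsd)

end Groth.Agent.MeroLib
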