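import Groth.Agent.MeroLib.Basic
import Groth.Agent.S12513

/-!
On a locally Noetherian scheme every non-zero-divisor of a local ring is the germ of a regular section.
-/

set_option autoImplicit false
set_option backward.isDefEq.respectTransparency false

universe u

open CategoryTheory AlgebraicGeometry TopologicalSpace Opposite

noncomputable section

namespace Groth.Agent.MeroLib

open Mero

variable {X : Scheme.{u}}

theorem mem_regStalk_of_nonZeroDivisor [IsLocallyNoetherian X] {x : X} {σ : X.presheaf.stalk x}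
    (hσ : σ ∈ nonZeroDivisors (X.presheaf.stalk x)) : σ ∈ regStalk X x := by
  classical
  obtain ⟨V, hxV, s₀, rfl⟩ := TopCat.Presheaf.exists_germ_eq (C := CommRingCat) X.presheaf σ
  obtain ⟨W, hW, hxW, hWV⟩ := TopologicalSpace.Opens.isBasis_iff_nbhd.mp X.isBasis_affineOpens hxV
  obtain ⟨s, hs⟩ : ∃ s : Γ(X, W), gO x hxW s = (X.presheaf.germ V x hxV).hom s₀ :=
    ⟨X.presheaf.map (homOfLE hWV).op s₀, TopCat.Presheaf.germ_res_apply X.presheaf _ x hxW s₀⟩
  haveI : IsNoetherianRing Γ(X, W) := IsLocallyNoetherian.component_noetherian ⟨W, hW⟩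
  let I : Ideal Γ(X, W) := LinearMap.ker (LinearMap.toSpanSingleton Γ(X, W) Γ(X, W) s)
  obtain ⟨T, hT⟩ := IsNoetherian.noetherian I
  have hloc : ∀ t ∈ T, ∃ a : Γ(X, W), x ∈ X.basicOpen a ∧ a * t = 0 := fun t ht => by
    have htI : t * s = 0 := hT.le (Submodule.subset_span ht)
    have h0 : gO x hxW t = 0 := by
      refine (mul_right_mem_nonZeroDivisors_eq_zero_iff (r := gO x hxW s) (by rw [hs]; exact hσ)).mp ?_
      rw [← map_mul, htI, map_zero]
    letI := TopCat.Presheaf.algebra_section_stalk X.presheaf ⟨x, hxW⟩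
    haveI := hW.isLocalization_stalk ⟨x, hxW⟩
    obtain ⟨a, ha⟩ := (IsLocalization.map_eq_zero_iff (hW.primeIdealOf ⟨x, hxW⟩).asIdeal.primeCompl
      (↑(X.presheaf.stalk x) : Type u) t).mp h0
    exact ⟨a.1, (X.mem_basicOpen a.1 x hxW).mpr (IsLocalization.map_units (↑(X.presheaf.stalk x) : Type u) a), ha⟩
  choose a hxa ha using hloc
  let b : Γ(X, W) := ∏ t ∈ T.attach, a t.1 t.2
  have hxb : x ∈ X.basicOpen b := (X.mem_basicOpen b x hxW).mpr (by
    rw [map_prod]
    exact IsUnit.prod_iff.mpr fun t _ => (X.mem_basicOpen (a t.1 t.2) x hxW).mp (hxa t.1 t.2))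
  have hbI : ∀ t ∈ I, b * t = 0 := by
    intro t ht
    rw [← hT] at ht
    induction ht using Submodule.span_induction with
    | mem t ht =>
      obtain ⟨c, hc⟩ : a t ht ∣ b :=
        Finset.dvd_prod_of_mem (fun t : {t // t ∈ T} => a t.1 t.2) (Finset.mem_attach T ⟨t, ht⟩)
      rw [hc, mul_comm (a t ht), mul_assoc, ha t ht, mul_zero]
    | zero => exact mul_zero b
    | add u v _ _ hu hv => rw [mul_add, hu, hv, add_zero]
    | smul c u _ hu => rw [smul_eq_mul, mul_left_comm, hu, mul_zero]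
  refine ⟨X.basicOpen b, hxb, X.presheaf.map (homOfLE (X.basicOpen_le b)).op s, fun y => ?_, ?_⟩
  · have hyW : y.1 ∈ W := X.basicOpen_le b y.2
    rw [TopCat.Presheaf.germ_res_apply]
    refine mem_nonZeroDivisors_iff_right.2 fun d hd => ?_
    letI := TopCat.Presheaf.algebra_section_stalk X.presheaf ⟨y.1, hyW⟩
    haveI := hW.isLocalization_stalk ⟨y.1, hyW⟩
    obtain ⟨d', t, rfl⟩ := IsLocalization.exists_mk'_eq (hW.primeIdealOf ⟨y.1, hyW⟩).asIdeal.primeCompl d
    have h1 : algebraMap Γ(X, W) (↑(X.presheaf.stalk y.1) : Type u) (d' * s) = 0 := by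
      rw [map_mul, ← IsLocalization.mk'_spec (↑(X.presheaf.stalk y.1) : Type u) d' t, mul_right_comm]
      exact mul_eq_zero_of_left hd _
    obtain ⟨u, hu⟩ := (IsLocalization.map_eq_zero_iff (hW.primeIdealOf ⟨y.1, hyW⟩).asIdeal.primeCompl
      (↑(X.presheaf.stalk y.1) : Type u) _).mp h1
    have h2 : b * (u.1 * d') = 0 := hbI _ (show (u.1 * d') * s = 0 by rw [mul_assoc]; exact hu)
    have h3 := congrArg (gO y.1 hyW) h2
    rw [map_mul, map_mul, map_zero] at h3
    have hbu := (X.mem_basicOpen b y.1 hyW).mp y.2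
    have huu : IsUnit (gO y.1 hyW u.1) := IsLocalization.map_units (↑(X.presheaf.stalk y.1) : Type u) u
    rw [hbu.mul_right_eq_zero, huu.mul_right_eq_zero] at h3
    have hd0 : algebraMap Γ(X, W) (↑(X.presheaf.stalk y.1) : Type u) d' = 0 := h3
    rw [IsLocalization.mk'_eq_zero_iff]
    exact (IsLocalization.map_eq_zero_iff _ (↑(X.presheaf.stalk y.1) : Type u) d').mp hd0
  · rw [TopCat.Presheaf.germ_res_apply]
    exact hs

end Groth.Agent.MeroLib
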